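import Groth.Agent.Lib.FlatBC10.Alg
import Groth.Agent.Lib.CBC10.Pullback
import Groth.Agent.Lib.CohFound.Qcqs
import Groth.Agent.Lib.CohFound.HHBridge
import Groth.Agent.Lib.CohFound.AffMor
import Groth.Agent.Lib.CohFound.PushFin
import Groth.Agent.Lib.CurveCoh17.LES

/-!
# Flat base change of cohomology over an affine base
-/

set_option autoImplicit false
set_option linter.style.haveILetI false
set_option linter.unusedSectionVars false
set_option maxHeartbeats 1000000

universe u

open CategoryTheory CategoryTheory.Limits AlgebraicGeometry TopologicalSpace Opposite TensorProduct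
open Groth.Agent.CohFound Groth.Agent.CBC10

noncomputable section

namespace Groth.Agent.FlatBC10

variable {A B : Type u} [CommRing A] [CommRing B] [Algebra A B] {X X' : Scheme.{u}}
  [X.Over (Spec (CommRingCat.of A))] [X'.Over (Spec (CommRingCat.of B))] [X'.Over (Spec (CommRingCat.of A))]

attribute [local instance] secA

variable (A) in
/-- The underlying sheaf of a module, with the action of the base ring. -/
def actOf (M : X.Modules) : Act (sp X) A where
  F := (abF X).obj M
  e a := Coh.smulAb M (Coh.toGlobal (X ↘ Spec (CommRingCat.of A)) a)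
  h1 := by rw [map_one]; exact Coh.smulAb_one M
  hm r s := by rw [map_mul]; exact Coh.smulAb_mul M _ _
  h0 := by rw [map_zero]; exact Coh.smulAb_zero M
  ha r s := by rw [map_add]; exact Coh.smulAb_add M _ _

variable (B) in
/-- The direct image of the sheaf of a module upstairs, with the action of the top ring. -/
def actPush (g : X' ⟶ X) (N : X'.Modules) : Act (sp X) B where
  F := (CohTop.push (g.base : sp X' ⟶ sp X)).obj ((abF X').obj N)
  e b := (CohTop.push (g.base : sp X' ⟶ sp X)).map (Coh.smulAb N (Coh.toGlobal (X' ↘ Spec (CommRingCat.of B)) b))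
  h1 := by rw [map_one, Coh.smulAb_one]; exact CategoryTheory.Functor.map_id _ _
  hm r s := by rw [map_mul, Coh.smulAb_mul]; exact Functor.map_comp _ _ _
  h0 := by rw [map_zero, Coh.smulAb_zero]; exact Functor.map_zero _ _ _
  ha r s := by rw [map_add, Coh.smulAb_add]; exact Functor.map_add _

variable {g : X' ⟶ X} (h : Sq (A := A) (B := B) g) (M : X.Modules)

/-- The map of sheaves given by the unit. -/
def unitSheaf : (abF X).obj M ⟶
    (CohTop.push (g.base : sp X' ⟶ sp X)).obj ((abF X').obj ((Scheme.Modules.pullback g).obj M)) :=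
  (abF X).map ((Scheme.Modules.pullbackPushforwardAdjunction g).unit.app M) ≫
    (abFPushIso g ((Scheme.Modules.pullback g).obj M)).hom

lemma unitSheaf_app (W : X.Opens) (s : Γ(M, W)) :
    (unitSheaf (g := g) M).hom.app (op W) s =
      (show Γ((Scheme.Modules.pullback g).obj M, g ⁻¹ᵁ W) from eta g M (le_refl (g ⁻¹ᵁ W)) s) :=
  (M1.mres_id ((Scheme.Modules.pullback g).obj M) le_rfl _).symm

include h in
lemma eta_ρ_smul (W : X.Opens) (a : A) (s : Γ(M, W)) :
    (show Γ((Scheme.Modules.pullback g).obj M, g ⁻¹ᵁ W) from eta g M (le_refl (g ⁻¹ᵁ W)) (ρ A W a • s)) =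
      ρ B (g ⁻¹ᵁ W) (algebraMap A B a) • eta g M (le_refl (g ⁻¹ᵁ W)) s := by
  rw [eta_smul, ρ_comap h (le_refl (g ⁻¹ᵁ W)) a, ρ_algebraMap h]

lemma actOf_e_app (a : A) (W : X.Opens) (s : Γ(M, W)) :
    ((actOf A M).e a).hom.app (op W) s = (ρ A W a • s : Γ(M, W)) := rfl

lemma actPush_e_app (N : X'.Modules) (b : B) (W : X.Opens) (t : Γ(N, g ⁻¹ᵁ W)) :
    ((actPush B g N).e b).hom.app (op W) t = (ρ B (g ⁻¹ᵁ W) b • t : Γ(N, g ⁻¹ᵁ W)) := rfl

/-- The unit, on sections. -/
def uS (W : X.Opens) : Γ(M, W) →+ Γ((Scheme.Modules.pullback g).obj M, g ⁻¹ᵁ W) :=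
  ((unitSheaf (g := g) M).hom.app (op W)).hom

lemma uS_eq (W : X.Opens) (s : Γ(M, W)) : uS (g := g) M W s = eta g M (le_refl (g ⁻¹ᵁ W)) s :=
  unitSheaf_app M W s

include h in
lemma bc_comm_app (a : A) (W : X.Opens) (s : Γ(M, W)) :
    uS (g := g) M W (ρ A W a • s) = ρ B (g ⁻¹ᵁ W) (algebraMap A B a) • uS (g := g) M W s := by
  rw [uS_eq, uS_eq]
  exact eta_ρ_smul h M W a s

/-- The comparison. -/
def bcHom : ActHom (actOf A M) (actPush B g ((Scheme.Modules.pullback g).obj M)) where
  η := unitSheaf M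
  comm a := by
    refine Sheaf.hom_ext (NatTrans.ext (funext fun W => ?_))
    ext s
    exact bc_comm_app h M a W.unop s

/-- Sections of a degree zero class, downstairs. -/
def secP (U : X.Opens) : (actOf A M).H 0 U →ₗ[A] Γ(M, U) where
  toFun := hc0 ((abF X).obj M) U
  map_add' := map_add (hc0 ((abF X).obj M) U)
  map_smul' a x := hc0_mp ((actOf A M).e a) U x

/-- Sections of a degree zero class, upstairs. -/
def secQ (U : X.Opens) : (bcHom h M).HB 0 U →+ Γ((Scheme.Modules.pullback g).obj M, g ⁻¹ᵁ U) :=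
  AddMonoidHom.mk' (hc0 (actPush B g ((Scheme.Modules.pullback g).obj M)).F U)
    (map_add (hc0 (actPush B g ((Scheme.Modules.pullback g).obj M)).F U))

lemma secQ_smul (U : X.Opens) (b : B) (x : (bcHom h M).HB 0 U) :
    secQ h M U (b • x) = ρ B (g ⁻¹ᵁ U) b • secQ h M U x :=
  hc0_mp ((actPush B g ((Scheme.Modules.pullback g).obj M)).e b) U x

lemma secQ_mpL (U : X.Opens) (x : (actOf A M).H 0 U) :
    secQ h M U ((bcHom h M).mpL 0 U x) = uS (g := g) M U (secP M U x) :=
  hc0_mp (unitSheaf M) U x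

lemma secQ_injective (U : X.Opens) : Function.Bijective (secQ h M U) :=
  (hc0 (actPush B g ((Scheme.Modules.pullback g).obj M)).F U).bijective

lemma hc0_φ (U : X.Opens) (z : B ⊗[A] (actOf A M).H 0 U) :
    secQ h M U ((bcHom h M).φ 0 U z) =
      chi h M (le_refl (g ⁻¹ᵁ U)) (TensorProduct.comm A B Γ(M, U) ((secP M U).lTensor B z)) := by
  induction z using TensorProduct.induction_on with
  | zero => simp only [map_zero]
  | add a b ha hb => simp only [map_add, ha, hb]
  | tmul b x =>
    rw [ActHom.φ_tmul, LinearMap.lTensor_tmul, TensorProduct.comm_tmul, chi_tmul, secQ_smul, secQ_mpL, uS_eq]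

variable [IsAffineHom g]

theorem bijective_affine (hM : Coh.IsQCoh M) {U : X.Opens} (hU : IsAffineOpen U) :
    ∀ n, Function.Bijective ((bcHom h M).φ n U)
  | 0 => by
    have hl : Function.Bijective (secP (A := A) M U) := (hc0 ((abF X).obj M) U).bijective
    have h1 : Function.Bijective ((secP (A := A) M U).lTensor B) :=
      ((LinearEquiv.ofBijective (secP (A := A) M U) hl).lTensor B).bijective
    have h2 := ((bijective_chi h hM hU (hU.preimage g) rfl).comp (TensorProduct.comm A B Γ(M, U)).bijective).comp h1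
    refine ⟨fun x y exy => h2.1 ((hc0_φ h M U x).symm.trans ((congrArg (secQ h M U) exy).trans (hc0_φ h M U y))),
      fun t => ?_⟩
    obtain ⟨z, hz⟩ := h2.2 (secQ h M U t)
    exact ⟨z, (secQ_injective h M U).1 ((hc0_φ h M U z).trans hz)⟩
  | n + 1 => by
    haveI := hM
    let M' := (Scheme.Modules.pullback g).obj M
    haveI : Coh.IsQCoh ((Scheme.Modules.pushforward g).obj M') := M1.isQCoh_push g (M1.isQCoh_pullback g hM)
    haveI h0 : Subsingleton ((actOf A M).H (n + 1) U) := subsingleton_hc_isAffineOpen M hU n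
    haveI : Subsingleton (B ⊗[A] (actOf A M).H (n + 1) U) := by
      refine subsingleton_of_forall_eq 0 fun z => ?_
      induction z using TensorProduct.induction_on with
      | zero => rfl
      | add a b ha hb => rw [ha, hb, add_zero]
      | tmul b x => rw [Subsingleton.elim x 0, TensorProduct.tmul_zero]
    haveI : Subsingleton ((bcHom h M).HB (n + 1) U) :=
      @Equiv.subsingleton _ _ (mpEquiv (abFPushIso g M') (n + 1) U).symm.toEquiv
        (subsingleton_hc_isAffineOpen ((Scheme.Modules.pushforward g).obj M') hU n)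
    exact ⟨fun _ _ _ => Subsingleton.elim _ _, fun y => ⟨0, Subsingleton.elim _ _⟩⟩

theorem bijective_of_isCompact [QuasiSeparatedSpace X] [Module.Flat A B] (hM : Coh.IsQCoh M) {U : X.Opens}
    (hU : IsCompact (U : Set X)) : ∀ n, Function.Bijective ((bcHom h M).φ n U) :=
  qcqs_induction (P := fun U => ∀ n, Function.Bijective ((bcHom h M).φ n U))
    (fun _ hV => bijective_affine h M hM hV) (fun U V _ _ h₁ h₂ h₃ => bijective_sup _ U V h₁ h₂ h₃) hU

lemma hExtP_smul (i : ℕ) (a : A) (x : Coh.HH X M i) :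
    @Eq ((actOf A M).H i ⊤) (hhExt M i (a • x)) (a • (show (actOf A M).H i ⊤ from hhExt M i x)) :=
  CurveCoh17.hhExt_smul i (Coh.toGlobal (X ↘ Spec (CommRingCat.of A)) a) x

variable (g) in
/-- Classes on `X` of the direct image as classes upstairs, linearly. -/
theorem exists_upEquiv (hM : Coh.IsQCoh M)
    (f : ActHom (actOf A M) (actPush B g ((Scheme.Modules.pullback g).obj M))) (i : ℕ) :
    Nonempty (f.HB i ⊤ ≃ₗ[B] Coh.HH X' ((Scheme.Modules.pullback g).obj M) i) := by
  let M' := (Scheme.Modules.pullback g).obj M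
  haveI : Coh.IsQCoh M' := M1.isQCoh_pullback g hM
  obtain ⟨ε, hε⟩ := exists_hc_push_commute (g.base : sp X' ⟶ sp X) (B := X.affineOpens) X.isBasis_affineOpens i
    ((abF X').obj M') (fun q _ V hV => subsingleton_hc_isAffineOpen M' (IsAffineOpen.preimage hV g) q) ⊤
  let T : f.HB i ⊤ ≃+ Coh.HH X' M' i := ε.trans (hhExt M' i).symm
  refine ⟨T.toLinearEquiv fun b x => (hhExt M' i).injective ?_⟩
  show hhExt M' i ((hhExt M' i).symm (ε _)) =
    hhExt M' i (Coh.toGlobal (X' ↘ Spec (CommRingCat.of B)) b • (hhExt M' i).symm (ε x))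
  rw [AddEquiv.apply_symm_apply, CurveCoh17.hhExt_smul, AddEquiv.apply_symm_apply]
  exact hε _ x

include h in
/-- Flat base change. -/
theorem nonempty_baseChange [CompactSpace X] [QuasiSeparatedSpace X] [Module.Flat A B] (hM : Coh.IsQCoh M) (i : ℕ) :
    Nonempty (B ⊗[A] Coh.HH X M i ≃ₗ[B] Coh.HH X' ((Scheme.Modules.pullback g).obj M) i) := by
  let e₁ : Coh.HH X M i ≃ₗ[A] (actOf A M).H i ⊤ :=
    { hhExt M i with map_smul' := hExtP_smul M i }
  let e₂ := LinearEquiv.ofBijective _ (bijective_of_isCompact h M hM (U := ⊤) isCompact_univ i)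
  obtain ⟨e₃⟩ := exists_upEquiv g M hM (bcHom h M) i
  exact ⟨((LinearEquiv.baseChange A B _ _ e₁).trans e₂).trans e₃⟩

end Groth.Agent.FlatBC10
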