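import Groth.Agent.Lib.CohFound.LocMV
import Groth.Agent.Lib.CohFound.LocModule
import Mathlib.RingTheory.Flat.Basic
import Mathlib.LinearAlgebra.TensorProduct.Prod

/-!
# Flat base change propagates along Mayer–Vietoris
-/

set_option autoImplicit false
set_option linter.style.haveILetI false
set_option linter.unusedSectionVars false

universe u

open CategoryTheory TopologicalSpace Opposite CategoryTheory.Limits TensorProduct Groth.Agent.CohFound

noncomputable section

namespace Groth.Agent.FlatBC10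

/-- A sheaf with the action of a ring. -/
structure Act (T : TopCat.{u}) (R : Type u) [CommRing R] where
  F : CohTop.Ab T
  e : R → (F ⟶ F)
  h1 : e 1 = 𝟙 F
  hm : ∀ r s, e (r * s) = e s ≫ e r
  h0 : e 0 = 0
  ha : ∀ r s, e (r + s) = e r + e s

variable {T : TopCat.{u}} {A B : Type u} [CommRing A] [CommRing B] [Algebra A B]

/-- A map of sheaves over a map of rings. -/
structure ActHom (P : Act T A) (Q : Act T B) where
  η : P.F ⟶ Q.F
  comm : ∀ a, P.e a ≫ η = η ≫ Q.e (algebraMap A B a)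

/-- Cohomology with the action, on the source. -/
def Act.H (P : Act T A) (n : ℕ) (U : Opens T) : Type u := Hc P.F n U

instance (P : Act T A) (n : ℕ) (U : Opens T) : AddCommGroup (P.H n U) := inferInstanceAs (AddCommGroup (Hc P.F n U))

instance (P : Act T A) (n : ℕ) (U : Opens T) : Module A (P.H n U) :=
  letI := actModule P.F P.e P.h1 P.hm P.h0 P.ha n U
  inferInstanceAs (Module A (Hc P.F n U))

variable {P : Act T A} {Q : Act T B}

/-- Cohomology with the action, on the target. -/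
def ActHom.HB (_f : ActHom P Q) (n : ℕ) (U : Opens T) : Type u := Hc Q.F n U

instance (f : ActHom P Q) (n : ℕ) (U : Opens T) : AddCommGroup (f.HB n U) :=
  inferInstanceAs (AddCommGroup (Hc Q.F n U))

instance instModuleB (f : ActHom P Q) (n : ℕ) (U : Opens T) : Module B (f.HB n U) :=
  letI := actModule Q.F Q.e Q.h1 Q.hm Q.h0 Q.ha n U
  inferInstanceAs (Module B (Hc Q.F n U))

instance instModuleA (f : ActHom P Q) (n : ℕ) (U : Opens T) : Module A (f.HB n U) :=
  Module.compHom _ (algebraMap A B)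

instance (f : ActHom P Q) (n : ℕ) (U : Opens T) : IsScalarTower A B (f.HB n U) :=
  IsScalarTower.of_algebraMap_smul fun _ _ => rfl

/-- Restriction, linearly. -/
def Act.res (P : Act T A) (n : ℕ) {U V : Opens T} (h : V ≤ U) : P.H n U →ₗ[A] P.H n V where
  toFun := rs P.F n h
  map_add' := map_add (rs P.F n h)
  map_smul' a x := (mp_rs (P.e a) n h x).symm

/-- The connecting map, linearly. -/
def Act.δ (P : Act T A) (n : ℕ) (U V : Opens T) : P.H n (U ⊓ V) →ₗ[A] P.H (n + 1) (U ⊔ V) where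
  toFun := mvδ U V P.F n
  map_add' := map_add (mvδ U V P.F n)
  map_smul' a x := (mp_mvδ (P.e a) x).symm

/-- Restriction on the target, linearly. -/
def ActHom.res (f : ActHom P Q) (n : ℕ) {U V : Opens T} (h : V ≤ U) : f.HB n U →ₗ[B] f.HB n V where
  toFun := rs Q.F n h
  map_add' := map_add (rs Q.F n h)
  map_smul' a x := (mp_rs (Q.e a) n h x).symm

/-- The connecting map on the target, linearly. -/
def ActHom.δ (f : ActHom P Q) (n : ℕ) (U V : Opens T) : f.HB n (U ⊓ V) →ₗ[B] f.HB (n + 1) (U ⊔ V) where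
  toFun := mvδ U V Q.F n
  map_add' := map_add (mvδ U V Q.F n)
  map_smul' a x := (mp_mvδ (Q.e a) x).symm

/-- The comparison map on cohomology. -/
def ActHom.mpL (f : ActHom P Q) (n : ℕ) (U : Opens T) : P.H n U →ₗ[A] f.HB n U where
  toFun := mp f.η n U
  map_add' := map_add (mp f.η n U)
  map_smul' a x := ((mp_comp (P.e a) f.η n U x).symm.trans
    (congrArg (fun φ => mp φ n U x) (f.comm a))).trans (mp_comp f.η (Q.e (algebraMap A B a)) n U x)

/-- `B ⊗ H(P) → H(Q)`. -/
def ActHom.φ (f : ActHom P Q) (n : ℕ) (U : Opens T) : B ⊗[A] P.H n U →ₗ[B] f.HB n U :=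
  (f.mpL n U).liftBaseChange B

lemma ActHom.φ_tmul (f : ActHom P Q) (n : ℕ) (U : Opens T) (b : B) (x : P.H n U) :
    f.φ n U (b ⊗ₜ x) = b • f.mpL n U x := LinearMap.liftBaseChange_tmul _ _ _ _

lemma ActHom.φ_res (f : ActHom P Q) (n : ℕ) {U V : Opens T} (h : V ≤ U) (z : B ⊗[A] P.H n U) :
    f.φ n V ((P.res n h).lTensor B z) = f.res n h (f.φ n U z) := by
  induction z using TensorProduct.induction_on with
  | zero => simp only [map_zero]
  | add a b ha hb => simp only [map_add, ha, hb]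
  | tmul b x =>
    rw [LinearMap.lTensor_tmul, φ_tmul, φ_tmul, map_smul]
    exact congrArg (b • ·) (mp_rs f.η n h x)

lemma ActHom.φ_δ (f : ActHom P Q) (n : ℕ) (U V : Opens T) (z : B ⊗[A] P.H n (U ⊓ V)) :
    f.φ (n + 1) (U ⊔ V) ((P.δ n U V).lTensor B z) = f.δ n U V (f.φ n (U ⊓ V) z) := by
  induction z using TensorProduct.induction_on with
  | zero => simp only [map_zero]
  | add a b ha hb => simp only [map_add, ha, hb]
  | tmul b x =>
    rw [LinearMap.lTensor_tmul, φ_tmul, φ_tmul, map_smul]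
    exact congrArg (b • ·) (mp_mvδ f.η x)

/-- Restriction to the two pieces. -/
def Act.r (P : Act T A) (n : ℕ) (U V : Opens T) : P.H n (U ⊔ V) →ₗ[A] P.H n U × P.H n V :=
  (P.res n le_sup_left).prod (P.res n le_sup_right)

/-- The difference on the intersection. -/
def Act.d (P : Act T A) (n : ℕ) (U V : Opens T) : P.H n U × P.H n V →ₗ[A] P.H n (U ⊓ V) :=
  (P.res n inf_le_left).coprod (-(P.res n inf_le_right))

theorem Act.exact_r_d (P : Act T A) (n : ℕ) (U V : Opens T) : Function.Exact (P.r n U V) (P.d n U V) := by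
  intro yz
  obtain ⟨y, z⟩ := yz
  constructor
  · intro h
    have h' : rs P.F n (inf_le_left : U ⊓ V ≤ U) y = rs P.F n (inf_le_right : U ⊓ V ≤ V) z :=
      sub_eq_zero.1 ((sub_eq_add_neg _ _).trans h)
    obtain ⟨x, hx, hx'⟩ := mv_glue y z h'
    exact ⟨x, Prod.ext hx hx'⟩
  · rintro ⟨x, hx⟩
    rw [← hx]
    show rs P.F n _ (rs P.F n _ x) + -(rs P.F n _ (rs P.F n _ x)) = (0 : Hc P.F n (U ⊓ V))
    rw [rs_rs, rs_rs, add_neg_cancel]

theorem Act.exact_δ_r (P : Act T A) (n : ℕ) (U V : Opens T) : Function.Exact (P.δ n U V) (P.r (n + 1) U V) := by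
  intro x
  constructor
  · intro h
    exact mv_exact x (congrArg Prod.fst h) (congrArg Prod.snd h)
  · rintro ⟨v, rfl⟩
    exact Prod.ext (rs_mvδ_left v) (rs_mvδ_right v)

theorem Act.δ_d (P : Act T A) (n : ℕ) (U V : Opens T) : (P.δ n U V).comp (P.d n U V) = 0 := by
  refine LinearMap.ext fun yz => ?_
  obtain ⟨y, z⟩ := yz
  exact (congrArg (mvδ U V P.F n) (sub_eq_add_neg _ _).symm).trans (mvδ_sub y z)

theorem Act.injective_r_zero (P : Act T A) (U V : Opens T) : Function.Injective (P.r 0 U V) :=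
  (injective_iff_map_eq_zero _).2 fun x h => eq_zero_of_rs_sup x (congrArg Prod.fst h) (congrArg Prod.snd h)

/-- Pairs, tensored. -/
def pairEquiv (n : ℕ) (U V : Opens T) (P : Act T A) :
    B ⊗[A] (P.H n U × P.H n V) ≃ₗ[A] (B ⊗[A] P.H n U) × (B ⊗[A] P.H n V) :=
  TensorProduct.prodRight A A B _ _

lemma pair_r (n : ℕ) (U V : Opens T) (P : Act T A) (z : B ⊗[A] P.H n (U ⊔ V)) :
    pairEquiv n U V P ((P.r n U V).lTensor B z) =
      ((P.res n (le_sup_left : U ≤ U ⊔ V)).lTensor B z, (P.res n (le_sup_right : V ≤ U ⊔ V)).lTensor B z) := by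
  induction z using TensorProduct.induction_on with
  | zero => simp only [map_zero]; rfl
  | add a b ha hb => simp only [map_add, ha, hb]; rfl
  | tmul b x => exact TensorProduct.prodRight_tmul _ _ _ _ _ b _

lemma pair_d (n : ℕ) (U V : Opens T) (P : Act T A) (w : B ⊗[A] (P.H n U × P.H n V)) :
    (P.d n U V).lTensor B w = (P.res n inf_le_left).lTensor B (pairEquiv n U V P w).1 -
      (P.res n inf_le_right).lTensor B (pairEquiv n U V P w).2 := by
  induction w using TensorProduct.induction_on with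
  | zero => simp only [map_zero, Prod.fst_zero, Prod.snd_zero, sub_zero]
  | add a b ha hb => simp only [map_add, ha, hb, Prod.fst_add, Prod.snd_add]; abel
  | tmul b x =>
    obtain ⟨y, z⟩ := x
    rw [pairEquiv, TensorProduct.prodRight_tmul]
    show b ⊗ₜ[A] (P.d n U V (y, z)) = b ⊗ₜ[A] P.res n inf_le_left y - b ⊗ₜ[A] P.res n inf_le_right z
    rw [← TensorProduct.tmul_sub, sub_eq_add_neg]
    rfl

variable [Module.Flat A B]

theorem bijective_sup (f : ActHom P Q) (U V : Opens T) (hU : ∀ n, Function.Bijective (f.φ n U))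
    (hV : ∀ n, Function.Bijective (f.φ n V)) (hI : ∀ n, Function.Bijective (f.φ n (U ⊓ V))) :
    ∀ n, Function.Bijective (f.φ n (U ⊔ V)) := by
  intro n
  have hker : ∀ {n : ℕ} (z : B ⊗[A] P.H n (U ⊔ V)), f.φ n (U ⊔ V) z = 0 →
      (P.r n U V).lTensor B z = 0 := fun {n} z hz => by
    refine (pairEquiv n U V P).injective ?_
    rw [map_zero, pair_r]
    refine Prod.ext ((hU n).1 ?_) ((hV n).1 ?_)
    · rw [f.φ_res, hz, map_zero]; exact (map_zero _).symm
    · rw [f.φ_res, hz, map_zero]; exact (map_zero _).symm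
  constructor
  · refine (injective_iff_map_eq_zero _).2 fun z hz => ?_
    cases n with
    | zero =>
      exact Module.Flat.lTensor_preserves_injective_linearMap _ (P.injective_r_zero U V)
        ((hker z hz).trans (map_zero _).symm)
    | succ m =>
      obtain ⟨w, rfl⟩ := ((Module.Flat.lTensor_exact B (P.exact_δ_r m U V)) z).1 (hker z hz)
      rw [f.φ_δ] at hz
      obtain ⟨y, x, hyx⟩ := mv_diff (F := Q.F) (U := U) (V := V) (n := m) (f.φ m (U ⊓ V) w) hz
      obtain ⟨Y, rfl⟩ := (hU m).2 y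
      obtain ⟨Z, rfl⟩ := (hV m).2 x
      have hw : w = (P.d m U V).lTensor B ((pairEquiv m U V P).symm (Y, Z)) := by
        refine (hI m).1 ?_
        rw [pair_d, LinearEquiv.apply_symm_apply, map_sub, f.φ_res, f.φ_res]
        exact hyx.symm
      rw [hw, ← LinearMap.comp_apply, ← LinearMap.lTensor_comp, P.δ_d, LinearMap.lTensor_zero, LinearMap.zero_apply]
  · intro x
    obtain ⟨Y, hY⟩ := (hU n).2 (f.res n le_sup_left x)
    obtain ⟨Z, hZ⟩ := (hV n).2 (f.res n le_sup_right x)
    have hd : (P.d n U V).lTensor B ((pairEquiv n U V P).symm (Y, Z)) = 0 := by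
      refine (hI n).1 ?_
      rw [pair_d, LinearEquiv.apply_symm_apply, map_sub, f.φ_res, f.φ_res, hY, hZ, map_zero]
      refine sub_eq_zero.2 ?_
      exact (rs_rs Q.F n _ _ x).trans (rs_rs Q.F n _ _ x).symm
    obtain ⟨X₀, hX₀⟩ := ((Module.Flat.lTensor_exact B (P.exact_r_d n U V)) _).1 hd
    have hX := congrArg (pairEquiv n U V P) hX₀
    rw [pair_r, LinearEquiv.apply_symm_apply] at hX
    have e1 : f.res n (le_sup_left : U ≤ U ⊔ V) (x - f.φ n _ X₀) = 0 := by
      rw [map_sub, ← f.φ_res, show (P.res n le_sup_left).lTensor B X₀ = Y from congrArg Prod.fst hX, hY, sub_self]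
    have e2 : f.res n (le_sup_right : V ≤ U ⊔ V) (x - f.φ n _ X₀) = 0 := by
      rw [map_sub, ← f.φ_res, show (P.res n le_sup_right).lTensor B X₀ = Z from congrArg Prod.snd hX, hZ, sub_self]
    cases n with
    | zero => exact ⟨X₀, (sub_eq_zero.1 (eq_zero_of_rs_sup (F := Q.F) _ e1 e2)).symm⟩
    | succ m =>
      obtain ⟨v, hv⟩ := mv_exact (F := Q.F) _ e1 e2
      obtain ⟨w, rfl⟩ := (hI m).2 v
      refine ⟨X₀ + (P.δ m U V).lTensor B w, ?_⟩
      rw [map_add, f.φ_δ]
      exact (congrArg (fun t : f.HB (m + 1) (U ⊔ V) => f.φ _ _ X₀ + t) hv).trans (add_sub_cancel _ x)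

end Groth.Agent.FlatBC10
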