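import Groth.Agent.Lib.CohFound.RpushQCoh
import Groth.Prelude.Def_CohBC2

/-!
# The degree `q` base change map on cocycles
-/

set_option autoImplicit false
set_option linter.style.haveILetI false
set_option maxHeartbeats 200000

universe u

open CategoryTheory CategoryTheory.Limits AlgebraicGeometry HomologicalComplex

noncomputable section

namespace Groth.Agent.FlatBC10

theorem mapAug_f_zero {A B : Type*} [Category A] [Category B] [Abelian A] [Abelian B] (Φ : A ⥤ B) [Φ.Additive] {Y : A}
    {I : CochainComplex A ℕ} (ι : (CochainComplex.single₀ A).obj Y ⟶ I) : (RDer.mapAug Φ ι).f 0 = Φ.map (ι.f 0) := by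
  simp [RDer.mapAug]
  exact Category.id_comp _

theorem cancel_two {C : Type*} [Category C] {a₀ a₁ a₂ a₃ a₄ a₅ a₆ a₇ a₈ : C} (a : a₀ ⟶ a₁) (b₁ : a₁ ⟶ a₂)
    (b₂ : a₂ ⟶ a₃) (I : a₄ ≅ a₃) (c : a₃ ⟶ a₅) (J : a₆ ≅ a₅) (d : a₅ ⟶ a₇) (e : a₇ ⟶ a₈) :
    a ≫ b₁ ≫ b₂ ≫ I.inv ≫ I.hom ≫ c ≫ J.inv ≫ J.hom ≫ d ≫ e = a ≫ ((b₁ ≫ b₂) ≫ c) ≫ d ≫ e := by
  simp

theorem slide {C : Type*} [Category C] {z₀ h₀ z₁ h₁ w₁ k₁ t : C} (π₀ : z₀ ⟶ h₀) (hm : h₀ ⟶ h₁) (hc : h₁ ⟶ k₁)
    (e : k₁ ⟶ t) (cm : z₀ ⟶ z₁) (π₁ : z₁ ⟶ h₁) (cc : z₁ ⟶ w₁) (πk : w₁ ⟶ k₁) {πe : w₁ ⟶ t}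
    (e₁ : π₀ ≫ hm = cm ≫ π₁) (e₂ : π₁ ≫ hc = cc ≫ πk) (e₃ : πe = πk ≫ e) :
    π₀ ≫ hm ≫ hc ≫ e = (cm ≫ cc) ≫ πe := by
  rw [e₃, reassoc_of% e₁, reassoc_of% e₂]
  simp only [Category.assoc]

variable {X S X' S' : Scheme.{u}} (f : X ⟶ S) (g : S' ⟶ S) (f' : X' ⟶ S') (g' : X' ⟶ X)
  (w : g' ≫ f = f' ≫ g) [HasInjectiveResolutions X.Modules] [HasInjectiveResolutions X'.Modules]
  [PreservesFiniteLimits (Scheme.Modules.pullback g')] (M : X.Modules)

/-- The chosen resolution downstairs. -/
abbrev resI : InjectiveResolution M := injectiveResolution M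

/-- The chosen resolution upstairs. -/
abbrev resJ : InjectiveResolution ((Scheme.Modules.pullback g').obj M) := injectiveResolution ((Scheme.Modules.pullback g').obj M)

/-- A map of resolutions over the unit. -/
def φK : (resI M).cocomplex ⟶ ((Scheme.Modules.pushforward g').mapHomologicalComplex _).obj (resJ g' M).cocomplex :=
  InjectiveResolution.desc ((Scheme.Modules.pullbackPushforwardAdjunction g').unit.app M)
      (injectiveResolution ((Scheme.Modules.pushforward g').obj ((Scheme.Modules.pullback g').obj M))) (resI M) ≫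
    RDer.descToInjectives (𝟙 ((Scheme.Modules.pushforward g').obj ((Scheme.Modules.pullback g').obj M)))
      (injectiveResolution ((Scheme.Modules.pushforward g').obj ((Scheme.Modules.pullback g').obj M))).cocomplex
      (injectiveResolution ((Scheme.Modules.pushforward g').obj ((Scheme.Modules.pullback g').obj M))).ι
      (((Scheme.Modules.pushforward g').mapHomologicalComplex _).obj (resJ g' M).cocomplex)
      (RDer.mapAug (Scheme.Modules.pushforward g') (resJ g' M).ι)

theorem ι_φK :
    (resI M).ι.f 0 ≫ (φK g' M).f 0 =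
      (Scheme.Modules.pullbackPushforwardAdjunction g').unit.app M ≫ (Scheme.Modules.pushforward g').map ((resJ g' M).ι.f 0) := by
  refine (Category.assoc _ _ _).symm.trans ((congrArg (fun t => t ≫ _)
    (InjectiveResolution.desc_commutes_zero ((Scheme.Modules.pullbackPushforwardAdjunction g').unit.app M)
      (injectiveResolution ((Scheme.Modules.pushforward g').obj ((Scheme.Modules.pullback g').obj M))) (resI M))).trans
    ((Category.assoc _ _ _).trans ?_))
  refine congrArg (fun t => (Scheme.Modules.pullbackPushforwardAdjunction g').unit.app M ≫ t)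
    ((RDer.ι_descToInjectives_f_zero _ _ _ _ _).trans ((Category.id_comp _).trans ?_))
  exact mapAug_f_zero (Scheme.Modules.pushforward g') (resJ g' M).ι

/-- The identification of the two composites of direct images. -/
abbrev sqIso : Scheme.Modules.pushforward g' ⋙ Scheme.Modules.pushforward f ≅ Scheme.Modules.pushforward f' ⋙ Scheme.Modules.pushforward g :=
  Scheme.Modules.pushforwardComp g' f ≪≫ Scheme.Modules.pushforwardCongr w ≪≫ (Scheme.Modules.pushforwardComp f' g).symm

/-- The map of complexes computing base change. -/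
def ψK : ((Scheme.Modules.pushforward f).mapHomologicalComplex _).obj (resI M).cocomplex ⟶
    ((Scheme.Modules.pushforward g).mapHomologicalComplex _).obj
      (((Scheme.Modules.pushforward f').mapHomologicalComplex _).obj (resJ g' M).cocomplex) :=
  ((Scheme.Modules.pushforward f).mapHomologicalComplex _).map (φK g' M) ≫
    (NatTrans.mapHomologicalComplex (sqIso f g f' g' w).hom (ComplexShape.up ℕ)).app (resJ g' M).cocomplex

theorem bcQAdj_eq (q : ℕ) :
    CohBC.bcQAdj f g f' g' w q M =
      ((resI M).isoRightDerivedObj (Scheme.Modules.pushforward f) q).hom ≫ homologyMap (ψK f g f' g' w M) q ≫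
        RDer.homologyComparison (Scheme.Modules.pushforward g)
          (((Scheme.Modules.pushforward f').mapHomologicalComplex _).obj (resJ g' M).cocomplex) q ≫
        (Scheme.Modules.pushforward g).map ((resJ g' M).isoRightDerivedObj (Scheme.Modules.pushforward f') q).inv := by
  have e₁ := Functor.rightDerived_map_eq (Scheme.Modules.pushforward f) q ((Scheme.Modules.pullbackPushforwardAdjunction g').unit.app M)
    (P := resI M) (Q := injectiveResolution ((Scheme.Modules.pushforward g').obj ((Scheme.Modules.pullback g').obj M)))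
    (InjectiveResolution.desc ((Scheme.Modules.pullbackPushforwardAdjunction g').unit.app M)
      (injectiveResolution ((Scheme.Modules.pushforward g').obj ((Scheme.Modules.pullback g').obj M))) (resI M))
    (InjectiveResolution.desc_commutes _ _ _)
  have e₂ : (CohBC.RpushSquareIso f g f' g' w q).hom.app ((Scheme.Modules.pullback g').obj M) =
      ((resJ g' M).isoRightDerivedObj (Scheme.Modules.pushforward g' ⋙ Scheme.Modules.pushforward f) q).hom ≫
        homologyMap ((NatTrans.mapHomologicalComplex (sqIso f g f' g' w).hom (ComplexShape.up ℕ)).app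
          (resJ g' M).cocomplex) q ≫
        ((resJ g' M).isoRightDerivedObj (Scheme.Modules.pushforward f' ⋙ Scheme.Modules.pushforward g) q).inv :=
    InjectiveResolution.rightDerived_app_eq (sqIso f g f' g' w).hom _ q
  unfold CohBC.bcQAdj RDer.edgeIn RDer.edgeOut
  erw [e₁, e₂]
  simp only [Category.assoc, Iso.inv_hom_id_assoc, Functor.comp_map]
  simp only [ψK, φK, resI, resJ, Functor.map_comp, homologyMap_comp, Category.assoc,
    HomologicalComplex.homologyFunctor_map]
  exact cancel_two _ _ _ _ _ _ _ _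

theorem bcQAdj_cocycle (q : ℕ) :
    (((Scheme.Modules.pushforward f).mapHomologicalComplex _).obj (resI M).cocomplex).homologyπ q ≫
        ((resI M).isoRightDerivedObj (Scheme.Modules.pushforward f) q).inv ≫ CohBC.bcQAdj f g f' g' w q M =
      (cyclesMap (ψK f g f' g' w M) q ≫ RDer.cyclesComparison (Scheme.Modules.pushforward g)
          (((Scheme.Modules.pushforward f').mapHomologicalComplex _).obj (resJ g' M).cocomplex) q) ≫
        (Scheme.Modules.pushforward g).map ((((Scheme.Modules.pushforward f').mapHomologicalComplex _).obj (resJ g' M).cocomplex).homologyπ q ≫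
          ((resJ g' M).isoRightDerivedObj (Scheme.Modules.pushforward f') q).inv) := by
  rw [bcQAdj_eq]
  refine (congrArg (fun t => _ ≫ t) (Iso.inv_hom_id_assoc _ _)).trans ?_
  exact slide _ _ _ _ _ _ _ _ (homologyπ_naturality (ψK f g f' g' w M) q)
    (RDer.homologyπ_homologyComparison (Scheme.Modules.pushforward g) _ q) (Functor.map_comp _ _ _)

theorem cycles_ψK (q : ℕ) :
    (cyclesMap (ψK f g f' g' w M) q ≫ RDer.cyclesComparison (Scheme.Modules.pushforward g)
          (((Scheme.Modules.pushforward f').mapHomologicalComplex _).obj (resJ g' M).cocomplex) q) ≫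
        (Scheme.Modules.pushforward g).map ((((Scheme.Modules.pushforward f').mapHomologicalComplex _).obj (resJ g' M).cocomplex).iCycles q) =
      (((Scheme.Modules.pushforward f).mapHomologicalComplex _).obj (resI M).cocomplex).iCycles q ≫ (ψK f g f' g' w M).f q := by
  exact ((Category.assoc _ _ _).trans (congrArg (fun t => cyclesMap (ψK f g f' g' w M) q ≫ t)
    (RDer.cyclesComparison_i (Scheme.Modules.pushforward g) _ q))).trans (cyclesMap_i (ψK f g f' g' w M) q)

end Groth.Agent.FlatBC10
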