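import Groth.Agent.Lib.CohFound.AugRes
import Groth.Agent.Lib.CohFound.SecEquiv

/-!
# Classes of cycles: naturality and direct images of resolutions
-/

set_option autoImplicit false
set_option linter.style.haveILetI false
set_option maxHeartbeats 400000

universe u

open CategoryTheory TopologicalSpace Opposite CategoryTheory.Limits
open Groth.Agent.CohFound

noncomputable section

namespace Groth.Agent.FlatBC10

variable {X Y : TopCat.{u}}

lemma cls_add {F : CohTop.Ab X} (R : AugCx F) {q : ℕ} {U : Opens X}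
    (s s' : (R.K.X q).obj.obj (op U)) (hs : (R.K.d q (q + 1)).hom.app (op U) s = 0)
    (hs' : (R.K.d q (q + 1)).hom.app (op U) s' = 0) :
    R.cls (s + s') (by rw [map_add, hs, hs', add_zero]) = R.cls s hs + R.cls s' hs' := by
  obtain ⟨z, rfl⟩ := R.exists_cycle s hs
  obtain ⟨z', rfl⟩ := R.exists_cycle s' hs'
  rw [R.cls_eq z _ hs rfl, R.cls_eq z' _ hs' rfl, R.cls_eq (z + z') _ _ (map_add _ _ _), map_add]

lemma cls_congr {F : CohTop.Ab X} (R : AugCx F) {q : ℕ} {U : Opens X}
    {s s' : (R.K.X q).obj.obj (op U)} (e : s = s') (hs : (R.K.d q (q + 1)).hom.app (op U) s = 0)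
    (hs' : (R.K.d q (q + 1)).hom.app (op U) s' = 0) : R.cls s hs = R.cls s' hs' := by
  subst e; rfl

/-- Classes are natural in the resolution. -/
theorem cls_natural {F G : CohTop.Ab X} (R : AugCx F) (R' : AugCx G) (τ : R.K ⟶ R'.K) (φ : F ⟶ G)
    (h : φ ≫ R'.ι = R.ι ≫ τ.f 0) {q : ℕ} {U : Opens X} (s : (R.K.X q).obj.obj (op U))
    (hs : (R.K.d q (q + 1)).hom.app (op U) s = 0)
    (hs' : (R'.K.d q (q + 1)).hom.app (op U) ((τ.f q).hom.app (op U) s) = 0) :
    mp φ q U (R.cls s hs) = R'.cls ((τ.f q).hom.app (op U) s) hs' := by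
  obtain ⟨z, hz⟩ := R.exists_cycle s hs
  rw [R.cls_eq z s hs hz, AugCx.toHc_natural R R' τ φ h U q z]
  refine (R'.cls_eq _ _ hs' ?_).symm
  exact (congrArg (fun ψ : R.Z q ⟶ R'.K.X q => ψ.hom.app (op U) z) (AugCx.zMap_ι R R' τ q)).trans
    (congrArg ((τ.f q).hom.app (op U)) hz)

variable {F : CohTop.Ab X} (R : AugCx F) (hR : R.IsFlasqueRes) (k : X ⟶ Y) {B : Set (Opens Y)}
  (hB : Opens.IsBasis B) (hF : ∀ q, ∀ V ∈ B, Subsingleton (Hc F (q + 1) ((Opens.map k).obj V)))

/-- The direct image of a flasque resolution, when the cohomology vanishes over a basis. -/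
def pushAug : AugCx ((CohTop.push k).obj F) where
  K := ((CohTop.push k).mapHomologicalComplex (ComplexShape.up ℕ)).obj R.K
  ι := (CohTop.push k).map R.ι
  w := (CategoryTheory.Functor.map_comp (CohTop.push k) _ _).symm.trans
    ((congrArg (CohTop.push k).map R.w).trans ((CohTop.push k).map_zero _ _))
  mono := mono_of_injective_app _ fun W => @injective_app_of_mono _ _ _ R.ι R.mono ((Opens.map k).obj W)
  exact₀ := exact_of_sections fun W s hs => @exact_app _ _ R.exact₀ R.mono ((Opens.map k).obj W) s hs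
  exact_succ n := exact_of_local_lift fun W s hs x hx => by
    obtain ⟨V, hV, hxV, hVW⟩ := Opens.isBasis_iff_nbhd.1 hB hx
    haveI := hF n V hV
    let s' : (R.K.X (n + 1)).obj.obj (op ((Opens.map k).obj V)) :=
      (R.K.X (n + 1)).obj.map (homOfLE (AugCx.preLe k hVW)).op s
    have hs' : (R.K.d (n + 1) (n + 2)).hom.app (op ((Opens.map k).obj V)) s' = 0 :=
      (NatTrans.naturality_apply (R.K.d (n + 1) (n + 2)).hom _ s).trans ((congrArg _ hs).trans (map_zero _))
    obtain ⟨t, ht⟩ := (R.cls_eq_zero_iff (hR.acyclicOn _) (CochainComplex.prev_nat_succ n) s' hs').1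
      (Subsingleton.elim _ _)
    exact ⟨V, hVW, hxV, t, ht⟩

lemma isFlasqueRes_pushAug : (pushAug R hR k hB hF).IsFlasqueRes := fun n =>
  haveI := hR n
  TopCat.Sheaf.IsFlasque.pushforward_isFlasque (R.K.X n) k

end Groth.Agent.FlatBC10
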