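import Groth.Agent.Lib.FlatBC10.Global
import Groth.Agent.Lib.FlatBC10.Cocycle
import Groth.Agent.Lib.CohFound.AugRes
import Groth.Agent.Lib.CBC10.PullOn

/-!
# Base change on the cocycles of a restricted resolution
-/

set_option autoImplicit false
set_option linter.style.haveILetI false
set_option linter.unusedSectionVars false
set_option maxHeartbeats 400000

universe u

open CategoryTheory CategoryTheory.Limits AlgebraicGeometry TopologicalSpace Opposite TensorProduct
open Groth.Agent.CohFound Groth.Agent.CBC10 Groth.Agent.ModLimH13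

noncomputable section

namespace Groth.Agent.FlatBC10

section Generic

variable {T : TopCat.{u}} {A B : Type u} [CommRing A] [CommRing B] [Algebra A B] {P : Act T A} {Q : Act T B}

lemma Act.smul_eq (P : Act T A) (n : ℕ) (U : Opens T) (a : A) (x : P.H n U) : a • x = mp (P.e a) n U x := rfl

lemma ActHom.smul_eq (f : ActHom P Q) (n : ℕ) (U : Opens T) (b : B) (x : f.HB n U) : b • x = mp (Q.e b) n U x := rfl

end Generic

/-- Sections over equal opens. -/
def mresEquiv {X : Scheme.{u}} (N : X.Modules) {U V : X.Opens} (h : V = U) : Γ(N, U) ≃+ Γ(N, V) where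
  toFun := M1.mres N h.le
  invFun := M1.mres N h.ge
  left_inv s := (M1.mres_mres N h.le h.ge s).trans (M1.mres_id N _ s)
  right_inv s := (M1.mres_mres N h.ge h.le s).trans (M1.mres_id N _ s)
  map_add' := map_add _

variable {X X' : Scheme.{u}} (g' : X' ⟶ X) (M : X.Modules) {W : X.Opens} {W' : X'.Opens} (e : W' ≤ g' ⁻¹ᵁ W)
  (R : ModRes M) (R' : ModRes ((Scheme.Modules.pullback g').obj M))
  (φ : R.K ⟶ ((Scheme.Modules.pushforward g').mapHomologicalComplex _).obj R'.K)
  (hφ : R.ι ≫ φ.f 0 = (Scheme.Modules.pullbackPushforwardAdjunction g').unit.app M ≫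
    (Scheme.Modules.pushforward g').map R'.ι)

variable (W) in
/-- The restricted resolution downstairs. -/
abbrev augDown : AugCx ((abF W.toScheme).obj (M.restrict W.ι)) := (R.restrict W.ι).toAug

variable [IsAffineHom (g'.resLE W W' e)] [Coh.IsQCoh M]

lemma isQCoh_up : Coh.IsQCoh (((Scheme.Modules.pullback g').obj M).restrict W'.ι) :=
  M1.isQCoh_restrict (M1.isQCoh_pullback g' ‹_›) _

lemma vanish_up (q : ℕ) (O : Opens (sp W.toScheme)) (hO : O ∈ W.toScheme.affineOpens) :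
    Subsingleton (Hc ((abF W'.toScheme).obj (((Scheme.Modules.pullback g').obj M).restrict W'.ι)) (q + 1)
      ((Opens.map ((g'.resLE W W' e).base : sp W'.toScheme ⟶ sp W.toScheme)).obj O)) :=
  haveI := isQCoh_up g' M (W' := W')
  subsingleton_hc_isAffineOpen _ (IsAffineOpen.preimage hO (g'.resLE W W' e)) q

/-- The restricted resolution upstairs, pushed down. -/
def augUp : AugCx ((CohTop.push ((g'.resLE W W' e).base : sp W'.toScheme ⟶ sp W.toScheme)).obj
    ((abF W'.toScheme).obj ((Scheme.Modules.pullback (g'.resLE W W' e)).obj (M.restrict W.ι)))) :=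
  (pushAug (R'.restrict W'.ι).toAug (fun n => (R'.restrict W'.ι).flasque n) _ W.toScheme.isBasis_affineOpens
    (vanish_up g' M e)).congr
    ((CohTop.push _).mapIso ((abF W'.toScheme).mapIso (CohPull.pullOnIso g' W W' e M)))

lemma isFlasqueRes_augUp : (augUp g' M e R').IsFlasqueRes :=
  AugCx.isFlasqueRes_congr (isFlasqueRes_pushAug _ _ _ _ _) _

/-- Restriction of the map of resolutions, on sections. -/
def tauApp (n : ℕ) (O : W.toScheme.Opens) :
    Γ(R.K.X n, W.ι ''ᵁ O) →+ Γ(R'.K.X n, W'.ι ''ᵁ ((g'.resLE W W' e) ⁻¹ᵁ O)) :=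
  AddMonoidHom.mk' (fun s => M1.mres (R'.K.X n) (image_le_preimage_image g' W W' e O)
      ((φ.f n).app (W.ι ''ᵁ O) s)) fun s t => by rw [map_add]; exact map_add _ _ _

/-- The restricted map of resolutions. -/
def tau : (augDown M W R).K ⟶ (augUp g' M e R').K where
  f n := ⟨{
    app := fun O => AddCommGrpCat.ofHom (tauApp g' M e R R' φ n O.unop)
    naturality := fun O O' i => by
      ext (s : Γ(R.K.X n, W.ι ''ᵁ O.unop))
      refine (congrArg (M1.mres (R'.K.X n) _) (M1.app_mres (φ.f n) (Scheme.Hom.image_mono W.ι i.unop.le) s)).trans ?_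
      exact (M1.mres_mres _ _ _ _).trans (M1.mres_mres (R'.K.X n) (image_le_preimage_image g' W W' e O.unop)
        (Scheme.Hom.image_mono W'.ι ((g'.resLE W W' e).preimage_mono i.unop.le)) _).symm }⟩
  comm' i j _ := by
    ext O (s : Γ(R.K.X i, W.ι ''ᵁ O.unop))
    refine (M1.app_mres (R'.K.d i j) _ ((φ.f i).app (W.ι ''ᵁ O.unop) s)).trans (congrArg (M1.mres (R'.K.X j) _) ?_)
    exact congrArg (fun ψ : R.K.X i ⟶ (Scheme.Modules.pushforward g').obj (R'.K.X j) => ψ.app (W.ι ''ᵁ O.unop) s)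
      (φ.comm i j)

lemma tau_app (n : ℕ) (O : W.toScheme.Opens) (s : Γ(R.K.X n, W.ι ''ᵁ O)) :
    ((tau g' M e R R' φ).f n).hom.app (op O) s =
      (show Γ(R'.K.X n, W'.ι ''ᵁ ((g'.resLE W W' e) ⁻¹ᵁ O)) from tauApp g' M e R R' φ n O s) := rfl

variable {A B : Type u} [CommRing A] [CommRing B] [Algebra A B]
  [W.toScheme.Over (Spec (CommRingCat.of A))] [W'.toScheme.Over (Spec (CommRingCat.of B))]
  [W'.toScheme.Over (Spec (CommRingCat.of A))]

include hφ in
lemma tau_ι (h : Sq (A := A) (B := B) (g'.resLE W W' e)) :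
    (bcHom h (M.restrict W.ι)).η ≫ (augUp g' M e R').ι =
      (augDown M W R).ι ≫ (tau g' M e R R' φ).f 0 := by
  refine Sheaf.hom_ext (NatTrans.ext (funext fun O => ?_))
  ext (s : Γ(M, W.ι ''ᵁ O.unop))
  let le := image_le_preimage_image g' W W' e O.unop
  have h1 : (CohPull.pullOnIso g' W W' e M).hom.app ((g'.resLE W W' e) ⁻¹ᵁ O.unop)
      (uS (g := g'.resLE W W' e) (M.restrict W.ι) O.unop s) = res' g' M le s :=
    (congrArg _ (uS_eq (g := g'.resLE W W' e) (M.restrict W.ι) O.unop s)).trans (pullOnIso_res' g' W W' e M O.unop s)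
  refine (congrArg (R'.ι.app (W'.ι ''ᵁ ((g'.resLE W W' e) ⁻¹ᵁ O.unop))) h1).trans ?_
  refine (M1.app_mres R'.ι le (M2.pullSec g' M s)).trans ?_
  exact congrArg (M1.mres (R'.K.X 0) le)
    (congrArg (fun ψ : M ⟶ (Scheme.Modules.pushforward g').obj (R'.K.X 0) => ψ.app (W.ι ''ᵁ O.unop) s) hφ).symm

include hφ in
/-- The comparison takes the class of a cocycle to the class of its image. -/
lemma mpL_cls (h : Sq (A := A) (B := B) (g'.resLE W W' e)) {q : ℕ} (s : Γ(R.K.X q, W.ι ''ᵁ ⊤))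
    (hs : ((augDown M W R).K.d q (q + 1)).hom.app (op ⊤) s = 0)
    (hs' : ((augUp g' M e R').K.d q (q + 1)).hom.app (op ⊤) (((tau g' M e R R' φ).f q).hom.app (op ⊤) s) = 0) :
    (bcHom h (M.restrict W.ι)).mpL q ⊤ ((augDown M W R).cls s hs) =
      (augUp g' M e R').cls (((tau g' M e R R' φ).f q).hom.app (op ⊤) s) hs' :=
  cls_natural _ _ (tau g' M e R R' φ) _ (tau_ι g' M e R R' φ hφ h) s hs hs'

attribute [local instance] secA

lemma actOf_e_eq {Z : Scheme.{u}} [Z.Over (Spec (CommRingCat.of A))] (N : Z.Modules) (a : A) :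
    (actOf A N).e a = gEnd N (Coh.toGlobal (Z ↘ Spec (CommRingCat.of A)) a) := by
  refine Sheaf.hom_ext (NatTrans.ext (funext fun O => ?_))
  ext s
  rfl

lemma smul_cls_down {q : ℕ} (a : A) (s : Γ(R.K.X q, W.ι ''ᵁ ⊤))
    (hs : ((augDown M W R).K.d q (q + 1)).hom.app (op ⊤) s = 0)
    (hs' : ((augDown M W R).K.d q (q + 1)).hom.app (op ⊤)
      (((R.restrict W.ι).smulK (Coh.toGlobal (W.toScheme ↘ Spec (CommRingCat.of A)) a)).f q |>.hom.app (op ⊤) s) = 0) :
    (a • (show (actOf A (M.restrict W.ι)).H q ⊤ from (augDown M W R).cls s hs)) =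
      (augDown M W R).cls
        (((R.restrict W.ι).smulK (Coh.toGlobal (W.toScheme ↘ Spec (CommRingCat.of A)) a)).f q |>.hom.app (op ⊤) s) hs' := by
  rw [Act.smul_eq, actOf_e_eq]
  exact cls_natural (augDown M W R) (augDown M W R) _ _ ((R.restrict W.ι).smulK_ι _) s hs hs'

/-- Multiplication on the complex upstairs. -/
def smulUp (r : Γ(W'.toScheme, ⊤)) : (augUp g' M e R').K ⟶ (augUp g' M e R').K :=
  ((CohTop.push ((g'.resLE W W' e).base : sp W'.toScheme ⟶ sp W.toScheme)).mapHomologicalComplex _).map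
    ((R'.restrict W'.ι).smulK r)

lemma smulUp_app (r : Γ(W'.toScheme, ⊤)) (n : ℕ) (O : W.toScheme.Opens)
    (s : Γ(R'.K.X n, W'.ι ''ᵁ ((g'.resLE W W' e) ⁻¹ᵁ O))) :
    ((smulUp g' M e R' r).f n).hom.app (op O) s =
      (show Γ((R'.K.X n).restrict W'.ι, (g'.resLE W W' e) ⁻¹ᵁ O) from
        (M1.ores (le_top : (g'.resLE W W' e) ⁻¹ᵁ O ≤ ⊤) r) •
          (show Γ((R'.K.X n).restrict W'.ι, (g'.resLE W W' e) ⁻¹ᵁ O) from s)) := rfl

lemma smulUp_ι (b : B) :
    (actPush B (g'.resLE W W' e) ((Scheme.Modules.pullback (g'.resLE W W' e)).obj (M.restrict W.ι))).e b ≫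
        (augUp g' M e R').ι =
      (augUp g' M e R').ι ≫ (smulUp g' M e R' (Coh.toGlobal (W'.toScheme ↘ Spec (CommRingCat.of B)) b)).f 0 := by
  refine Sheaf.hom_ext (NatTrans.ext (funext fun O => ?_))
  ext (t : Γ((Scheme.Modules.pullback (g'.resLE W W' e)).obj (M.restrict W.ι), (g'.resLE W W' e) ⁻¹ᵁ O.unop))
  refine (congrArg ((R'.restrict W'.ι).ι.app ((g'.resLE W W' e) ⁻¹ᵁ O.unop))
    (Scheme.Modules.Hom.app_smul (CohPull.pullOnIso g' W W' e M).hom _ t)).trans ?_
  exact Scheme.Modules.Hom.app_smul (R'.restrict W'.ι).ι _ _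

lemma smul_cls_up (h : Sq (A := A) (B := B) (g'.resLE W W' e)) {q : ℕ} (b : B)
    (s : Γ(R'.K.X q, W'.ι ''ᵁ ((g'.resLE W W' e) ⁻¹ᵁ ⊤)))
    (hs : ((augUp g' M e R').K.d q (q + 1)).hom.app (op ⊤) s = 0)
    (hs' : ((augUp g' M e R').K.d q (q + 1)).hom.app (op ⊤)
      (((smulUp g' M e R' (Coh.toGlobal (W'.toScheme ↘ Spec (CommRingCat.of B)) b)).f q).hom.app (op ⊤) s) = 0) :
    (b • (show (bcHom h (M.restrict W.ι)).HB q ⊤ from (augUp g' M e R').cls s hs)) =
      (augUp g' M e R').cls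
        (((smulUp g' M e R' (Coh.toGlobal (W'.toScheme ↘ Spec (CommRingCat.of B)) b)).f q).hom.app (op ⊤) s) hs' := by
  rw [ActHom.smul_eq]
  exact cls_natural (augUp g' M e R') (augUp g' M e R') (smulUp g' M e R' _) _ (smulUp_ι g' M e R' b) s hs hs'

end Groth.Agent.FlatBC10
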