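import Groth.Agent.Lib.CohFound.RpushQCoh
import Groth.Agent.Lib.CohFound.SecAffine
import Groth.Agent.Lib.FlatBC10.Cocycle

/-!
# Sections of higher direct images over affine opens, on cocycles
-/

set_option autoImplicit false
set_option linter.style.haveILetI false
set_option linter.unusedSectionVars false
set_option maxHeartbeats 400000

universe u

open CategoryTheory TopologicalSpace Opposite CategoryTheory.Limits AlgebraicGeometry
open Groth.Agent.CohFound

noncomputable section

namespace Groth.Agent.FlatBC10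

variable {X S : Scheme.{u}} (f : X ⟶ S) [HasInjectiveResolutions X.Modules] (M : X.Modules) (q : ℕ)

/-- The complex computing the higher direct images. -/
abbrev dirCx : CochainComplex S.Modules ℕ :=
  ((Scheme.Modules.pushforward f).mapHomologicalComplex _).obj (injectiveResolution M).cocomplex

/-- Cycles to higher direct images. -/
def cycπ : (dirCx f M).cycles q ⟶ (Coh.Rpush f q).obj M :=
  (dirCx f M).homologyπ q ≫ ((injectiveResolution M).isoRightDerivedObj (Scheme.Modules.pushforward f) q).inv

/-- The cocycle of a section of the cycles. -/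
def cocyc (U : S.Opens) : Γ((dirCx f M).cycles q, U) →+ Γ((injectiveResolution M).cocomplex.X q, f ⁻¹ᵁ U) :=
  (((dirCx f M).iCycles q).app U).hom

lemma d_cocyc (U : S.Opens) (z : Γ((dirCx f M).cycles q, U)) :
    ((injectiveResolution M).cocomplex.d q (q + 1)).app (f ⁻¹ᵁ U) (cocyc f M q U z) = 0 :=
  congrArg (fun φ : (dirCx f M).cycles q ⟶ (dirCx f M).X (q + 1) => φ.app U z) ((dirCx f M).iCycles_d q (q + 1))

lemma cocyc_smul (U : S.Opens) (a : Γ(S, U)) (z : Γ((dirCx f M).cycles q, U)) :
    cocyc f M q U (a • z) = f.app U a • cocyc f M q U z :=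
  Scheme.Modules.Hom.app_smul ((dirCx f M).iCycles q) a z

/-- The homology of the complex as homology data. -/
def cxData {i : ℕ} (hi : (ComplexShape.up ℕ).prev q = i) :
    HData ((ModRes.ofInj (injectiveResolution M)).toAug.pushSC (f.base : sp X ⟶ sp S) i q) where
  Z := (abF S).obj ((dirCx f M).cycles q)
  H := (abF S).obj ((dirCx f M).homology q)
  i := (abF S).map ((dirCx f M).iCycles q)
  mono := inferInstanceAs (Mono ((abF S).map ((dirCx f M).iCycles q)))
  wi := by
    rw [← pushSC_map_g]
    exact (CategoryTheory.Functor.map_comp (abF S) _ _).symm.trans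
      ((congrArg (abF S).map ((dirCx f M).iCycles_d q (q + 1))).trans ((abF S).map_zero _ _))
  exactI := by
    have h := (ShortComplex.exact_of_f_is_kernel (ShortComplex.mk _ _ ((dirCx f M).iCycles_d q (q + 1)))
      ((dirCx f M).cyclesIsKernel q (q + 1) (by simp))).map (abF S)
    exact ShortComplex.exact_of_iso (ShortComplex.isoMk (Iso.refl _) (Iso.refl _) (Iso.refl _)
      ((Category.id_comp _).trans (Category.comp_id _).symm)
      ((Category.id_comp _).trans ((pushSC_map_g f (ModRes.ofInj (injectiveResolution M)) i q).symm.trans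
        (Category.comp_id _).symm))) h
  a := (abF S).map ((dirCx f M).toCycles i q)
  ha := (CategoryTheory.Functor.map_comp (abF S) _ _).symm.trans
    ((congrArg (abF S).map ((dirCx f M).toCycles_i i q)).trans
      (pushSC_map_f f (ModRes.ofInj (injectiveResolution M)) i q))
  π := (abF S).map ((dirCx f M).homologyπ q)
  w := (CategoryTheory.Functor.map_comp (abF S) _ _).symm.trans
    ((congrArg (abF S).map ((dirCx f M).toCycles_comp_homologyπ i q)).trans ((abF S).map_zero _ _))
  exactπ := (ShortComplex.exact_of_g_is_cokernel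
    (ShortComplex.mk _ _ ((dirCx f M).toCycles_comp_homologyπ i q))
    ((dirCx f M).homologyIsCokernel i q hi)).map (abF S)
  epi := inferInstanceAs (Epi ((abF S).map ((dirCx f M).homologyπ q)))

variable [QuasiCompact f] [QuasiSeparated f] [Coh.IsQCoh M] {U : S.Opens} (hU : IsAffineOpen U)

include hU in
lemma secGood_dir {i : ℕ} (hi : (ComplexShape.up ℕ).prev q = i) :
    SecGood ((ModRes.ofInj (injectiveResolution M)).toAug.pushSC (f.base : sp X ⟶ sp S) i q) U :=
  secGood_isAffineOpen f ‹_› (ModRes.ofInj (injectiveResolution M)).toAug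
    (fun n => (ModRes.ofInj (injectiveResolution M)).flasque n) hi hU

include hU in
lemma cycπ_surjective : Function.Surjective ((cycπ f M q).app U) := by
  intro x
  let e := (injectiveResolution M).isoRightDerivedObj (Scheme.Modules.pushforward f) q
  obtain ⟨z, hz⟩ := AugCx.π_surjective (cxData f M q rfl) (secGood_dir f M q hU rfl) (e.hom.app U x)
  exact ⟨z, (congrArg (e.inv.app U) hz).trans
    (congrArg (fun φ : (Coh.Rpush f q).obj M ⟶ _ => φ.app U x) e.hom_inv_id)⟩

include hU in
lemma cycπ_eq_zero_iff {i : ℕ} (hi : (ComplexShape.up ℕ).prev q = i) (z : Γ((dirCx f M).cycles q, U)) :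
    (cycπ f M q).app U z = 0 ↔
      ∃ t, ((injectiveResolution M).cocomplex.d i q).app (f ⁻¹ᵁ U) t = cocyc f M q U z := by
  let e := (injectiveResolution M).isoRightDerivedObj (Scheme.Modules.pushforward f) q
  let D := cxData f M q hi
  constructor
  · intro h
    have hz : D.π.hom.app (op U) z = 0 :=
      ((congrArg (fun φ : (dirCx f M).homology q ⟶ _ => φ.app U (((dirCx f M).homologyπ q).app U z))
        e.inv_hom_id).symm.trans (congrArg (e.hom.app U) h)).trans (map_zero _)
    obtain ⟨t, ht⟩ := (secGood_dir f M q hU hi).exists_eq_of_eq_zero D.i D.wi D.a D.ha D.π D.w D.exactπ z hz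
    exact ⟨t, (D.i_a U t).symm.trans (congrArg (D.i.hom.app (op U)) ht)⟩
  · rintro ⟨t, ht⟩
    have hz : D.a.hom.app (op U) t = z := injective_app_of_mono D.i U ((D.i_a U t).trans ht)
    have h0 : D.π.hom.app (op U) z = 0 := by
      rw [← hz]
      exact congrArg (fun φ : ((ModRes.ofInj (injectiveResolution M)).toAug.pushSC
        (f.base : sp X ⟶ sp S) i q).X₁ ⟶ D.H => φ.hom.app (op U) t) D.w
    exact (congrArg (e.inv.app U) h0).trans (map_zero _)

include hU in
/-- Sections of the higher direct image as classes, for any flasque resolution with the same sections. -/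
theorem exists_secEquiv {T : TopCat.{u}} {F : CohTop.Ab T} (R : AugCx F) (hR : R.IsFlasqueRes) (W : Opens T)
    (e : ∀ n, Γ((injectiveResolution M).cocomplex.X n, f ⁻¹ᵁ U) ≃+ (R.K.X n).obj.obj (op W))
    (he : ∀ i j s, (R.K.d i j).hom.app (op W) (e i s) =
      e j (((injectiveResolution M).cocomplex.d i j).app (f ⁻¹ᵁ U) s)) :
    ∃ E : Γ((Coh.Rpush f q).obj M, U) ≃+ Hc F q W, ∀ z hz,
      E ((cycπ f M q).app U z) = R.cls (q := q) (e q (cocyc f M q U z)) hz := by
  have hs : ∀ z, (R.K.d q (q + 1)).hom.app (op W) (e q (cocyc f M q U z)) = 0 := fun z => by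
    rw [he, d_cocyc, map_zero]
  let κ : Γ((dirCx f M).cycles q, U) →+ Hc F q W :=
    AddMonoidHom.mk' (fun z => R.cls _ (hs z)) fun z z' => by
      rw [← cls_add R]
      exact cls_congr R ((congrArg (e q) (map_add _ z z')).trans (map_add _ _ _)) _ _
  have hsurj : Function.Surjective κ := fun x => by
    obtain ⟨s, hs', rfl⟩ := R.exists_cls_eq (hR.acyclicOn W) x
    obtain ⟨t, rfl⟩ := (e q).surjective s
    have ht : ((injectiveResolution M).cocomplex.d q (q + 1)).app (f ⁻¹ᵁ U) t = 0 :=
      (e (q + 1)).injective ((he q (q + 1) t).symm.trans (hs'.trans (map_zero _).symm))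
    obtain ⟨z, hz⟩ := exact_app (cxData f M q rfl).exactI (U := U) t ht
    exact ⟨z, cls_congr R (congrArg (e q) hz) (hs z) hs'⟩
  have hπ : Function.Surjective ((cycπ f M q).app U).hom := cycπ_surjective f M q hU
  have hker : ((cycπ f M q).app U).hom.ker = κ.ker := AddSubgroup.ext fun z => by
    refine (cycπ_eq_zero_iff f M q hU (i := _) rfl z).trans ((Iff.trans ?_
      (R.cls_eq_zero_iff (hR.acyclicOn W) rfl _ (hs z)).symm))
    exact ⟨fun ⟨t, ht⟩ => ⟨e _ t, (he _ q t).trans (congrArg (e q) ht)⟩, fun ⟨t, ht⟩ => by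
      obtain ⟨t, rfl⟩ := (e _).surjective t
      exact ⟨t, (e q).injective ((he _ q t).symm.trans ht)⟩⟩
  refine ⟨(QuotientAddGroup.quotientKerEquivOfSurjective _ hπ).symm.trans
    ((QuotientAddGroup.quotientAddEquivOfEq hker).trans (QuotientAddGroup.quotientKerEquivOfSurjective κ hsurj)),
    fun z hz => ?_⟩
  have he' : (QuotientAddGroup.quotientKerEquivOfSurjective _ hπ).symm ((cycπ f M q).app U z) =
      QuotientAddGroup.mk z := by
    rw [AddEquiv.symm_apply_eq]; rfl
  rw [AddEquiv.trans_apply, AddEquiv.trans_apply, he']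
  rfl

end Groth.Agent.FlatBC10
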