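import Groth.Agent.Lib.FlatBC10.BcQChain
import Groth.Agent.Lib.FlatBC10.Sections
import Groth.Agent.Lib.FlatBC10.Model
import Groth.Agent.Lib.PullBC11.Crit

/-!
# The base change morphism of a flat base change is an isomorphism
-/

set_option autoImplicit false
set_option linter.style.haveILetI false
set_option linter.unusedSectionVars false
set_option maxHeartbeats 600000

universe u

open CategoryTheory CategoryTheory.Limits AlgebraicGeometry TopologicalSpace Opposite TensorProduct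
open Groth.Agent.CohFound Groth.Agent.CBC10

noncomputable section

namespace Groth.Agent.FlatBC10

lemma appLE_isoSpec {S S' : Scheme.{u}} (g : S' ⟶ S) {U : S.Opens} (hU : IsAffineOpen U) {V : S'.Opens}
    (hV : IsAffineOpen V) (e : V ≤ g ⁻¹ᵁ U) :
    g.resLE U V e ≫ hU.isoSpec.hom = hV.isoSpec.hom ≫ Spec.map (g.appLE U V e) := by
  simp [IsAffineOpen.isoSpec_hom]

lemma toGlobal_resLE {X S : Scheme.{u}} (f : X ⟶ S) {U : S.Opens} (hU : IsAffineOpen U) (W : X.Opens)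
    (e : W ≤ f ⁻¹ᵁ U) (a : Γ(S, U)) :
    Coh.toGlobal (f.resLE U W e ≫ hU.isoSpec.hom) a =
      (show Γ(W.toScheme, ⊤) from M1.ores (W.ι_image_top.le : W.ι ''ᵁ ⊤ ≤ W) (f.appLE U W e a)) := by
  change (f.resLE U W e ≫ hU.isoSpec.hom).appTop ((Scheme.ΓSpecIso Γ(S, U)).inv a) = _
  have h : (f.resLE U W e ≫ hU.isoSpec.hom).appTop =
      (Scheme.ΓSpecIso Γ(S, U)).hom ≫ f.appLE U W e ≫ W.topIso.inv := by
    rw [Scheme.Hom.comp_appTop, IsAffineOpen.isoSpec_hom_appTop, Scheme.Hom.appTop, Scheme.Hom.resLE_app_top]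
    simp only [Category.assoc, Iso.inv_hom_id_assoc]
  refine (ConcreteCategory.congr_hom h ((Scheme.ΓSpecIso Γ(S, U)).inv a)).trans ?_
  exact congrArg (fun t => W.topIso.inv (f.appLE U W e t))
    (ConcreteCategory.congr_hom (Scheme.ΓSpecIso Γ(S, U)).inv_hom_id a)

lemma restrict_smul {X : Scheme.{u}} (N : X.Modules) (W : X.Opens) (O : W.toScheme.Opens)
    (r : Γ(W.toScheme, O)) (s : Γ(N.restrict W.ι, O)) :
    (show Γ(N, W.ι ''ᵁ O) from r • s) = (show Γ(X, W.ι ''ᵁ O) from r) • (show Γ(N, W.ι ''ᵁ O) from s) := by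
  have h : (show Γ(X, W.ι ''ᵁ O) from (W.ι.appIso O).inv r) = (show Γ(X, W.ι ''ᵁ O) from r) := by
    rw [Scheme.Opens.ι_appIso]; rfl
  exact congrArg (fun c : Γ(X, W.ι ''ᵁ O) => c • (show Γ(N, W.ι ''ᵁ O) from s)) h

lemma toGlobal_act {X S : Scheme.{u}} (f : X ⟶ S) {U : S.Opens} (hU : IsAffineOpen U)
    (O : (f ⁻¹ᵁ U).toScheme.Opens) (hO : (f ⁻¹ᵁ U).ι ''ᵁ O ≤ f ⁻¹ᵁ U) (a : Γ(S, U)) :
    (show Γ(X, (f ⁻¹ᵁ U).ι ''ᵁ O) from
        M1.ores (le_top : O ≤ ⊤) (Coh.toGlobal (f.resLE U (f ⁻¹ᵁ U) le_rfl ≫ hU.isoSpec.hom) a)) =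
      M1.ores hO (f.app U a) := by
  rw [toGlobal_resLE, Scheme.Hom.appLE_eq_app]
  exact M1.ores_ores (f ⁻¹ᵁ U).ι_image_top.le ((f ⁻¹ᵁ U).ι.image_mono le_top) _

variable {X S X' S' : Scheme.{u}} (f : X ⟶ S) (g : S' ⟶ S) (g' : X' ⟶ X) (f' : X' ⟶ S')
  [HasInjectiveResolutions X.Modules] [HasInjectiveResolutions X'.Modules]
  [PreservesFiniteLimits (Scheme.Modules.pullback g')] (M : X.Modules) [Coh.IsQCoh M] (q : ℕ)

lemma ψK_app (w : g' ≫ f = f' ≫ g) (U : S.Opens) (s : Γ((injectiveResolution M).cocomplex.X q, f ⁻¹ᵁ U)) :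
    ((ψK f g f' g' w M).f q).app U s =
      M1.mres ((resJ g' M).cocomplex.X q) (Scheme.Hom.comp_preimage f' g U ▸ w ▸ le_rfl :
          f' ⁻¹ᵁ (g ⁻¹ᵁ U) ≤ g' ⁻¹ᵁ (f ⁻¹ᵁ U))
        (((φK g' M).f q).app (f ⁻¹ᵁ U) s) := rfl

theorem isBC_bcQAdj [QuasiCompact f] [QuasiSeparated f] [Flat g] (h : IsPullback g' f' f g) {U : S.Opens}
    (hU : IsAffineOpen U) {V : S'.Opens} (hV : IsAffineOpen V) (hle : V ≤ g ⁻¹ᵁ U) :
    PullBC11.IsBC (g := g) (M := (Coh.Rpush f q).obj M)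
      (N := (Coh.Rpush f' q).obj ((Scheme.Modules.pullback g').obj M))
      (CohBC.bcQAdj f g f' g' h.w q M) (U := U) (V := V) hle := by
  let M' := (Scheme.Modules.pullback g').obj M
  haveI : Coh.IsQCoh M' := M1.isQCoh_pullback g' ‹_›
  haveI : QuasiCompact f' := MorphismProperty.of_isPullback h inferInstance
  haveI : QuasiSeparated f' := MorphismProperty.of_isPullback h inferInstance
  let W := f ⁻¹ᵁ U
  let W' := f' ⁻¹ᵁ V
  have e : W' ≤ g' ⁻¹ᵁ W := by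
    change f' ⁻¹ᵁ V ≤ g' ⁻¹ᵁ (f ⁻¹ᵁ U)
    rw [← Scheme.Hom.comp_preimage, h.w, Scheme.Hom.comp_preimage]
    exact f'.preimage_mono hle
  letI algAB : Algebra Γ(S, U) Γ(S', V) := (g.appLE U V hle).hom.toAlgebra
  letI : W.toScheme.Over (Spec (CommRingCat.of Γ(S, U))) := ⟨f.resLE U W le_rfl ≫ hU.isoSpec.hom⟩
  letI : W'.toScheme.Over (Spec (CommRingCat.of Γ(S', V))) := ⟨f'.resLE V W' le_rfl ≫ hV.isoSpec.hom⟩
  letI : W'.toScheme.Over (Spec (CommRingCat.of Γ(S, U))) :=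
    ⟨(W'.toScheme ↘ Spec (CommRingCat.of Γ(S', V))) ≫ Spec.map (CommRingCat.ofHom (algebraMap Γ(S, U) Γ(S', V)))⟩
  have hsq : Sq (A := Γ(S, U)) (B := Γ(S', V)) (g'.resLE W W' e) :=
    ⟨(Scheme.Hom.isPullback_resLE h hle (le_refl W) (UY := W') (inf_eq_right.mpr e).symm).of_iso (Iso.refl _)
      (Iso.refl _) hV.isoSpec hU.isoSpec (by simp) ((Category.id_comp _).symm) ((Category.id_comp _).symm)
      (appLE_isoSpec g hU hV hle), rfl⟩
  haveI : IsAffineHom (g'.resLE W W' e) := MorphismProperty.of_isPullback hsq.isPullback.flip inferInstance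
  haveI : Module.Flat Γ(S, U) Γ(S', V) := g.flat_appLE hU hV hle
  haveI : IsAffine U := hU
  haveI : CompactSpace W :=
    isCompact_iff_compactSpace.mp (QuasiCompact.isCompact_preimage _ U.isOpen hU.isCompact)
  haveI : QuasiSeparatedSpace W := quasiSeparatedSpace_of_quasiSeparated (f ∣_ U)
  haveI hM1 : Coh.IsQCoh (M.restrict W.ι) := M1.isQCoh_restrict ‹_› _
  let R := ModRes.ofInj (injectiveResolution M)
  let R' := ModRes.ofInj (resJ g' M)
  let D := augDown M W R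
  let D' := augUp g' M e R'
  have hD : D.IsFlasqueRes := fun n => (R.restrict W.ι).flasque n
  have hD' : D'.IsFlasqueRes := isFlasqueRes_augUp g' M e R'
  have hW' : W'.ι ''ᵁ ((g'.resLE W W' e) ⁻¹ᵁ ⊤) = W' := by rw [Scheme.Hom.preimage_top, Scheme.Opens.ι_image_top]
  obtain ⟨E₁, hE₁⟩ := exists_secEquiv f M q hU D hD ⊤ (fun n => mresEquiv (R.K.X n) W.ι_image_top)
    (fun i j s => M1.app_mres (R.K.d i j) W.ι_image_top.le s)
  obtain ⟨E₂, hE₂⟩ := exists_secEquiv f' M' q hV D' hD' ⊤ (fun n => mresEquiv (R'.K.X n) hW')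
    (fun i j s => M1.app_mres (R'.K.d i j) hW'.le s)
  have hd₁ : ∀ z, (D.K.d q (q + 1)).hom.app (op ⊤) (mresEquiv (R.K.X q) W.ι_image_top (cocyc f M q U z)) = 0 :=
    fun z => (M1.app_mres (R.K.d q (q + 1)) W.ι_image_top.le _).trans
      ((congrArg (M1.mres _ W.ι_image_top.le) (d_cocyc f M q U z)).trans (map_zero _))
  have hd₂ : ∀ z, (D'.K.d q (q + 1)).hom.app (op ⊤) (mresEquiv (R'.K.X q) hW' (cocyc f' M' q V z)) = 0 :=
    fun z => (M1.app_mres (R'.K.d q (q + 1)) hW'.le _).trans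
      ((congrArg (M1.mres _ hW'.le) (d_cocyc f' M' q V z)).trans (map_zero _))
  let L₁ : Γ((Coh.Rpush f q).obj M, U) ≃ₗ[Γ(S, U)] (actOf Γ(S, U) (M.restrict W.ι)).H q ⊤ :=
    (show Γ((Coh.Rpush f q).obj M, U) ≃+ (actOf Γ(S, U) (M.restrict W.ι)).H q ⊤ from E₁).toLinearEquiv
      fun a x => by
    obtain ⟨z, rfl⟩ := cycπ_surjective f M q hU x
    have hs : (((R.restrict W.ι).smulK (Coh.toGlobal (W.toScheme ↘ Spec (CommRingCat.of Γ(S, U))) a)).f q).hom.app (op ⊤)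
        (mresEquiv (R.K.X q) W.ι_image_top (cocyc f M q U z)) =
        mresEquiv (R.K.X q) W.ι_image_top (cocyc f M q U (a • z)) := by
      refine Eq.trans ?_ (congrArg (mresEquiv (R.K.X q) W.ι_image_top) (cocyc_smul f M q U a z)).symm
      refine Eq.trans ?_ (M1.mres_smul (R.K.X q) W.ι_image_top.le (f.app U a) _).symm
      exact (restrict_smul _ W (⊤ : W.toScheme.Opens) _ _).trans
        (congrArg₂ (· • ·) (toGlobal_act f hU (⊤ : W.toScheme.Opens) W.ι_image_top.le a) rfl)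
    refine ((congrArg E₁ (Scheme.Modules.Hom.app_smul (cycπ f M q) a z).symm).trans (hE₁ _ (hd₁ _))).trans ?_
    refine Eq.trans ?_ (congrArg (fun t : (actOf Γ(S, U) (M.restrict W.ι)).H q ⊤ => a • t) (hE₁ z (hd₁ z))).symm
    refine Eq.trans ?_ (smul_cls_down M R a _ (hd₁ z) ((congrArg _ hs).trans (hd₁ _))).symm
    exact cls_congr D hs.symm _ _
  let L₂ : Γ((Coh.Rpush f' q).obj M', V) ≃ₗ[Γ(S', V)] (bcHom hsq (M.restrict W.ι)).HB q ⊤ :=
    (show Γ((Coh.Rpush f' q).obj M', V) ≃+ (bcHom hsq (M.restrict W.ι)).HB q ⊤ from E₂).toLinearEquiv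
      fun b x => by
    obtain ⟨z, rfl⟩ := cycπ_surjective f' M' q hV x
    have hs : ((smulUp g' M e R' (Coh.toGlobal (W'.toScheme ↘ Spec (CommRingCat.of Γ(S', V))) b)).f q).hom.app (op ⊤)
        (mresEquiv (R'.K.X q) hW' (cocyc f' M' q V z)) =
        mresEquiv (R'.K.X q) hW' (cocyc f' M' q V (b • z)) := by
      refine (smulUp_app g' M e R' _ q ⊤ _).trans ?_
      refine Eq.trans ?_ (congrArg (mresEquiv (R'.K.X q) hW') (cocyc_smul f' M' q V b z)).symm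
      refine Eq.trans ?_ (M1.mres_smul (R'.K.X q) hW'.le (f'.app V b) _).symm
      exact (restrict_smul _ W' ((g'.resLE W W' e) ⁻¹ᵁ ⊤) _ _).trans
        (congrArg₂ (· • ·) (toGlobal_act f' hV ((g'.resLE W W' e) ⁻¹ᵁ ⊤) hW'.le b) rfl)
    refine ((congrArg E₂ (Scheme.Modules.Hom.app_smul (cycπ f' M' q) b z).symm).trans (hE₂ _ (hd₂ _))).trans ?_
    refine Eq.trans ?_ (congrArg (fun t : (bcHom hsq (M.restrict W.ι)).HB q ⊤ => b • t) (hE₂ z (hd₂ z))).symm
    refine Eq.trans ?_ (smul_cls_up g' M e R' hsq b _ (hd₂ z) ((congrArg _ hs).trans (hd₂ _))).symm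
    exact cls_congr D' hs.symm _ _
  letI := PullBC11.baseModule (g := g) ((Coh.Rpush f' q).obj M') hle
  haveI : IsScalarTower Γ(S, U) Γ(S', V) Γ((Coh.Rpush f' q).obj M', V) :=
    IsScalarTower.of_algebraMap_smul fun _ _ => rfl
  let Φ := LinearEquiv.ofBijective _
    (bijective_of_isCompact hsq (M.restrict W.ι) hM1 (U := ⊤) isCompact_univ q)
  refine IsBaseChange.of_equiv (((LinearEquiv.baseChange Γ(S, U) Γ(S', V) _ _ L₁).trans Φ).trans L₂.symm) fun x => ?_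
  obtain ⟨z, rfl⟩ := cycπ_surjective f M q hU x
  refine (LinearEquiv.symm_apply_eq L₂).2 ?_
  refine (((bcHom hsq (M.restrict W.ι)).φ_tmul q ⊤ 1 _).trans (one_smul _ _)).trans ?_
  let l := HomologicalComplex.cyclesMap (ψK f g f' g' h.w M) q ≫ RDer.cyclesComparison (Scheme.Modules.pushforward g) (dirCx f' M') q
  let z' : Γ((dirCx f' M').cycles q, V) := M1.mres _ hle (l.app U z)
  have hbc : (CohBC.bcQAdj f g f' g' h.w q M).app U ((cycπ f M q).app U z) =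
      (cycπ f' M' q).app (g ⁻¹ᵁ U) (l.app U z) :=
    congrArg (fun ψ : (dirCx f M).cycles q ⟶ (Scheme.Modules.pushforward g).obj ((Coh.Rpush f' q).obj M') => ψ.app U z)
      ((Category.assoc _ _ _).trans (bcQAdj_cocycle f g f' g' h.w M q))
  refine Eq.trans ?_ ((congrArg E₂ ((congrArg (M1.mres _ hle) hbc).trans
    (M1.app_mres (cycπ f' M' q) hle (l.app U z)).symm)).trans (hE₂ z' (hd₂ z'))).symm
  have hz : cocyc f' M' q V z' = M1.mres _ (f'.preimage_mono hle) (((ψK f g f' g' h.w M).f q).app U (cocyc f M q U z)) := by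
    refine (M1.app_mres ((dirCx f' M').iCycles q) hle (l.app U z)).trans (congrArg (M1.mres _ (f'.preimage_mono hle)) ?_)
    exact congrArg (fun ψ : (dirCx f M).cycles q ⟶ (Scheme.Modules.pushforward g).obj ((dirCx f' M').X q) => ψ.app U z)
      (cycles_ψK f g f' g' h.w M q)
  have hs : ((tau g' M e R R' (φK g' M)).f q).hom.app (op ⊤) (mresEquiv (R.K.X q) W.ι_image_top (cocyc f M q U z)) =
      mresEquiv (R'.K.X q) hW' (cocyc f' M' q V z') := by
    refine Eq.trans ?_ (congrArg (mresEquiv (R'.K.X q) hW') (hz.trans (congrArg (M1.mres _ (f'.preimage_mono hle))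
      (ψK_app f g g' f' M q h.w U (cocyc f M q U z))))).symm
    refine (congrArg (M1.mres (R'.K.X q) _) (M1.app_mres ((φK g' M).f q) W.ι_image_top.le (cocyc f M q U z))).trans ?_
    refine (M1.mres_mres (R'.K.X q) _ _ _).trans ?_
    refine ((congrArg (M1.mres (R'.K.X q) hW'.le) (M1.mres_mres (R'.K.X q) _ _ _)).trans (M1.mres_mres (R'.K.X q) _ _ _)).symm
  refine (congrArg ((bcHom hsq (M.restrict W.ι)).mpL q ⊤) (hE₁ z (hd₁ z))).trans ?_
  exact (mpL_cls g' M e R R' (φK g' M) (ι_φK g' M) hsq _ (hd₁ z) ((congrArg _ hs).trans (hd₂ _))).trans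
    (cls_congr D' hs _ _)

theorem isIso_bcQ [QuasiCompact f] [QuasiSeparated f] [Flat g] (h : IsPullback g' f' f g) :
    IsIso (CohBC.bcQ f g f' g' h.w q M) := by
  haveI : QuasiCompact f' := MorphismProperty.of_isPullback h inferInstance
  haveI : QuasiSeparated f' := MorphismProperty.of_isPullback h inferInstance
  refine PullBC11.isIso_of_isBC (g := g) (M := (Coh.Rpush f q).obj M)
    (N := (Coh.Rpush f' q).obj ((Scheme.Modules.pullback g').obj M)) (CohBC.bcQAdj f g f' g' h.w q M)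
    (isQCoh_rpush f ‹_› q) (isQCoh_rpush f' (M1.isQCoh_pullback g' ‹_›) q) fun y => ?_
  obtain ⟨U, hU, hyU, -⟩ := Opens.isBasis_iff_nbhd.1 S.isBasis_affineOpens (U := ⊤) (x := g y) trivial
  obtain ⟨V, hV, hyV, hVU⟩ := Opens.isBasis_iff_nbhd.1 S'.isBasis_affineOpens (U := g ⁻¹ᵁ U) (x := y) hyU
  exact ⟨U, hU, V, hV, hVU, hyV, isBC_bcQAdj f g g' f' M q h hU hV hVU⟩

end Groth.Agent.FlatBC10
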