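import Groth.Agent.Lib.FlatBC10.Global
import Mathlib.Topology.Sheaves.SheafCondition.Sites
import Mathlib.RingTheory.Finiteness.Projective

/-!
# Base change along a finite projective algebra, without finiteness conditions on the scheme
-/

set_option autoImplicit false
set_option linter.style.haveILetI false
set_option linter.unusedSectionVars false
set_option maxHeartbeats 600000

universe u

open CategoryTheory CategoryTheory.Limits AlgebraicGeometry TopologicalSpace Opposite TensorProduct
open Groth.Agent.CohFound Groth.Agent.CBC10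

noncomputable section

namespace Groth.Agent.FlatBC10

variable {A B : Type u} [CommRing A] [CommRing B] [Algebra A B] {X X' : Scheme.{u}}
  [X.Over (Spec (CommRingCat.of A))] [X'.Over (Spec (CommRingCat.of B))] [X'.Over (Spec (CommRingCat.of A))]

attribute [local instance] secA

variable {g : X' ⟶ X} (h : Sq (A := A) (B := B) g) (M : X.Modules) [IsAffineHom g] (hM : Coh.IsQCoh M)

/-- Sections upstairs over the preimage of an affine open. -/
def chiAff (W : X.affineOpens) :
    Γ(M, W.1) ⊗[A] B ≃ₗ[A] Γ((Scheme.Modules.pullback g).obj M, g ⁻¹ᵁ W.1) :=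
  LinearEquiv.ofBijective (chi h M (le_refl (g ⁻¹ᵁ W.1))) (bijective_chi h hM W.2 (W.2.preimage g) rfl)

lemma chiAff_tmul (W : X.affineOpens) (s : Γ(M, W.1)) (b : B) :
    chiAff h M hM W (s ⊗ₜ b) = ρ B (g ⁻¹ᵁ W.1) b • uS (g := g) M W.1 s :=
  (chi_tmul h M _ s b).trans (congrArg (ρ B (g ⁻¹ᵁ W.1) b • ·) (uS_eq M W.1 s).symm)

variable (l : B →ₗ[A] A)

/-- A functional applied to the sections over an affine open. -/
def contrApp (W : X.affineOpens) : Γ((Scheme.Modules.pullback g).obj M, g ⁻¹ᵁ W.1) →+ Γ(M, W.1) :=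
  (TensorProduct.rid A Γ(M, W.1)).toAddMonoidHom.comp
    ((l.lTensor Γ(M, W.1)).toAddMonoidHom.comp (chiAff h M hM W).symm.toAddMonoidHom)

lemma contrApp_chi (W : X.affineOpens) (z : Γ(M, W.1) ⊗[A] B) :
    contrApp h M hM l W (chiAff h M hM W z) = TensorProduct.rid A Γ(M, W.1) (l.lTensor Γ(M, W.1) z) :=
  congrArg (fun t => TensorProduct.rid A Γ(M, W.1) (l.lTensor Γ(M, W.1) t)) ((chiAff h M hM W).symm_apply_apply z)

lemma contrApp_res {W V : X.affineOpens} (e : V.1 ≤ W.1) (t : Γ((Scheme.Modules.pullback g).obj M, g ⁻¹ᵁ W.1)) :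
    contrApp h M hM l V (M1.mres ((Scheme.Modules.pullback g).obj M) (g.preimage_mono e) t) =
      M1.mres M e (contrApp h M hM l W t) := by
  obtain ⟨z, rfl⟩ := (chiAff h M hM W).surjective t
  rw [contrApp_chi]
  have e₁ : M1.mres ((Scheme.Modules.pullback g).obj M) (g.preimage_mono e) (chiAff h M hM W z) =
      chiAff h M hM V ((resL A M e).rTensor B z) :=
    (chi_res h M (le_refl (g ⁻¹ᵁ W.1)) (le_refl (g ⁻¹ᵁ V.1)) e (g.preimage_mono e) z).symm
  rw [e₁, contrApp_chi]
  clear e₁
  induction z using TensorProduct.induction_on with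
  | zero => simp only [map_zero]
  | add a b ha hb => simp only [map_add, ha, hb]
  | tmul s b =>
    rw [LinearMap.rTensor_tmul, LinearMap.lTensor_tmul, LinearMap.lTensor_tmul, TensorProduct.rid_tmul,
      TensorProduct.rid_tmul]
    exact ((resL A M e).map_smul (l b) s).symm

lemma isBasis_aff : Opens.IsBasis (Set.range fun W : X.affineOpens => (W.1 : Opens (sp X))) := by
  have : Set.range (fun W : X.affineOpens => (W.1 : Opens (sp X))) = X.affineOpens := by
    ext U
    exact ⟨fun ⟨W, hW⟩ => hW ▸ W.2, fun hU => ⟨⟨U, hU⟩, rfl⟩⟩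
  rw [this]
  exact X.isBasis_affineOpens

/-- A functional applied to the sheaf upstairs. -/
def contr : (actPush B g ((Scheme.Modules.pullback g).obj M)).F ⟶ (actOf A M).F :=
  ⟨TopCat.Sheaf.restrictHomEquivHom (actPush B g ((Scheme.Modules.pullback g).obj M)).F.obj (actOf A M).F
    isBasis_aff
    { app := fun W => AddCommGrpCat.ofHom (contrApp h M hM l W.unop)
      naturality := fun W V i => by
        ext t
        exact contrApp_res h M hM l i.unop.hom.le t }⟩

lemma contr_app (W : X.affineOpens) (t : Γ((Scheme.Modules.pullback g).obj M, g ⁻¹ᵁ W.1)) :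
    (contr h M hM l).hom.app (op W.1) t = contrApp h M hM l W t :=
  ConcreteCategory.congr_hom (TopCat.Sheaf.extend_hom_app (actPush B g ((Scheme.Modules.pullback g).obj M)).F.obj
    (actOf A M).F isBasis_aff _ W) t

lemma sheafHom_ext {F G : CohTop.Ab (sp X)} {α β : F ⟶ G}
    (e : ∀ W : X.affineOpens, α.hom.app (op W.1) = β.hom.app (op W.1)) : α = β :=
  Sheaf.hom_ext (TopCat.Sheaf.hom_ext F.obj G isBasis_aff e)

lemma η_e_contr (b : B) :
    (bcHom h M).η ≫ (actPush B g ((Scheme.Modules.pullback g).obj M)).e b ≫ contr h M hM l =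
      (actOf A M).e (l b) := by
  refine sheafHom_ext fun W => ?_
  refine AddCommGrpCat.ext fun (s : Γ(M, W.1)) => ?_
  refine (contr_app h M hM l W (ρ B (g ⁻¹ᵁ W.1) b • uS (g := g) M W.1 s)).trans ?_
  rw [← chiAff_tmul h M hM W s b, contrApp_chi, LinearMap.lTensor_tmul, TensorProduct.rid_tmul]
  rfl

variable {n : ℕ} (c : Fin n → B) (ls : Fin n → (B →ₗ[A] A)) (hdual : ∀ b : B, ∑ j, ls j b • c j = b)

lemma app_sum {T : TopCat.{u}} {F G : CohTop.Ab T} {ι : Type*} (S : Finset ι) (f : ι → (F ⟶ G)) (U : Opens T)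
    (s : F.obj.obj (op U)) : (∑ j ∈ S, f j).hom.app (op U) s = ∑ j ∈ S, (f j).hom.app (op U) s := by
  classical
  induction S using Finset.induction with
  | empty => rfl
  | insert a S ha ih => rw [Finset.sum_insert ha, Finset.sum_insert ha, ← ih]; rfl

include hdual in
lemma sum_contr :
    ∑ j, contr h M hM (ls j) ≫ (bcHom h M).η ≫ (actPush B g ((Scheme.Modules.pullback g).obj M)).e (c j) =
      𝟙 (actPush B g ((Scheme.Modules.pullback g).obj M)).F := by
  refine sheafHom_ext fun W => ?_
  refine AddCommGrpCat.ext fun (t : Γ((Scheme.Modules.pullback g).obj M, g ⁻¹ᵁ W.1)) => ?_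
  refine (app_sum (F := (actPush B g ((Scheme.Modules.pullback g).obj M)).F)
    (G := (actPush B g ((Scheme.Modules.pullback g).obj M)).F) Finset.univ _ W.1 t).trans ?_
  obtain ⟨z, rfl⟩ := (chiAff h M hM W).surjective t
  have e : ∀ j, (contr h M hM (ls j) ≫ (bcHom h M).η ≫
      (actPush B g ((Scheme.Modules.pullback g).obj M)).e (c j)).hom.app (op W.1) (chiAff h M hM W z) =
      chiAff h M hM W (TensorProduct.rid A Γ(M, W.1) ((ls j).lTensor Γ(M, W.1) z) ⊗ₜ c j) := fun j => by
    rw [chiAff_tmul, ← contrApp_chi h M hM (ls j) W z, ← contr_app h M hM (ls j) W]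
    rfl
  refine (Finset.sum_congr rfl fun j _ => e j).trans ?_
  clear e
  refine (map_sum (chiAff h M hM W) _ _).symm.trans (congrArg (chiAff h M hM W) ?_)
  induction z using TensorProduct.induction_on with
  | zero => simp only [map_zero, TensorProduct.zero_tmul, Finset.sum_const_zero]
  | add a b ha hb =>
    simp only [map_add, TensorProduct.add_tmul, Finset.sum_add_distrib]
    rw [ha, hb]
  | tmul s b =>
    simp only [LinearMap.lTensor_tmul, TensorProduct.rid_tmul, TensorProduct.smul_tmul]
    rw [← TensorProduct.tmul_sum, hdual b]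

/-- A functional applied to classes upstairs. -/
def contrH (i : ℕ) (U : X.Opens) (y : (bcHom h M).HB i U) : (actOf A M).H i U := mp (contr h M hM l) i U y

lemma contrH_add (i : ℕ) (U : X.Opens) (y y' : (bcHom h M).HB i U) :
    contrH h M hM l i U (y + y') = contrH h M hM l i U y + contrH h M hM l i U y' :=
  map_add (mp (contr h M hM l) i U) y y'

lemma contrH_zero (i : ℕ) (U : X.Opens) : contrH h M hM l i U 0 = 0 := map_zero (mp (contr h M hM l) i U)

lemma contrH_φ (i : ℕ) (U : X.Opens) (b : B) (x : (actOf A M).H i U) :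
    contrH h M hM l i U ((bcHom h M).φ i U (b ⊗ₜ x)) = l b • x := by
  rw [ActHom.φ_tmul]
  refine (mp_comp ((actPush B g ((Scheme.Modules.pullback g).obj M)).e b) (contr h M hM l) i U _).symm.trans ?_
  refine (mp_comp (bcHom h M).η ((actPush B g ((Scheme.Modules.pullback g).obj M)).e b ≫ contr h M hM l) i U x).symm.trans ?_
  exact congrArg (fun φ => mp φ i U x) (η_e_contr h M hM l b)

/-- The class map, as a map of groups in the sheaf map. -/
def mpHom {T : TopCat.{u}} {F G : CohTop.Ab T} (i : ℕ) (U : Opens T) (x : Hc F i U) : (F ⟶ G) →+ Hc G i U :=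
  AddMonoidHom.mk' (fun φ => mp φ i U x) fun φ ψ => mp_add φ ψ i U x

include hdual hM in
theorem bijective_finProj (i : ℕ) (U : X.Opens) : Function.Bijective ((bcHom h M).φ i U) := by
  let P := actOf A M
  let Q := actPush B g ((Scheme.Modules.pullback g).obj M)
  let ψ : (bcHom h M).HB i U → B ⊗[A] P.H i U := fun y =>
    ∑ j, c j ⊗ₜ[A] contrH h M hM (ls j) i U y
  have h1 : ∀ y, (bcHom h M).φ i U (ψ y) = y := fun y => by
    rw [map_sum]
    refine Eq.trans ?_ ((congrArg (fun φ => mp φ i U y) (sum_contr h M hM c ls hdual)).trans (mp_id Q.F i U y))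
    refine Eq.trans ?_ (map_sum (mpHom (G := Q.F) i U y)
      (fun j => contr h M hM (ls j) ≫ (bcHom h M).η ≫ Q.e (c j)) Finset.univ).symm
    refine Finset.sum_congr rfl fun j _ => ?_
    rw [ActHom.φ_tmul]
    exact (mp_comp (bcHom h M).η (Q.e (c j)) i U _).symm.trans
      (mp_comp (contr h M hM (ls j)) ((bcHom h M).η ≫ Q.e (c j)) i U y).symm
  have h2 : ∀ z, ψ ((bcHom h M).φ i U z) = z := fun z => by
    induction z using TensorProduct.induction_on with
    | zero =>
      simp only [ψ, map_zero, contrH_zero, TensorProduct.tmul_zero, Finset.sum_const_zero]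
    | add a b ha hb =>
      refine Eq.trans ?_ (congrArg₂ (· + ·) ha hb)
      simp only [ψ, map_add, contrH_add, TensorProduct.tmul_add, Finset.sum_add_distrib]
    | tmul b x =>
      simp only [ψ, contrH_φ, ← TensorProduct.smul_tmul]
      rw [← TensorProduct.sum_tmul, hdual b]
  exact ⟨Function.LeftInverse.injective h2, Function.RightInverse.surjective h1⟩

include h in
/-- Base change along a finite projective algebra. -/
theorem nonempty_finProjBaseChange [Module.Finite A B] [Module.Projective A B] (hM : Coh.IsQCoh M) (i : ℕ) :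
    Nonempty (B ⊗[A] Coh.HH X M i ≃ₗ[B] Coh.HH X' ((Scheme.Modules.pullback g).obj M) i) := by
  classical
  obtain ⟨n, f, s, -, -, hfs⟩ := Module.Finite.exists_comp_eq_id_of_projective A B
  have hdual : ∀ b : B, ∑ j, (LinearMap.proj (R := A) j ∘ₗ s) b • f (Pi.single j 1) = b := fun b => by
    refine Eq.trans ?_ (LinearMap.congr_fun hfs b)
    simp only [LinearMap.comp_apply, LinearMap.proj_apply, ← map_smul, ← map_sum]
    exact congrArg f (pi_eq_sum_univ' (s b)).symm
  let e₁ : Coh.HH X M i ≃ₗ[A] (actOf A M).H i ⊤ := { hhExt M i with map_smul' := hExtP_smul M i }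
  let e₂ := LinearEquiv.ofBijective _ (bijective_finProj h M hM _ _ hdual i ⊤)
  obtain ⟨e₃⟩ := exists_upEquiv g M hM (bcHom h M) i
  exact ⟨((LinearEquiv.baseChange A B _ _ e₁).trans e₂).trans e₃⟩

end Groth.Agent.FlatBC10
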