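import Groth.Agent.Lib.FlatBC10.BcQChain
import Groth.Agent.Lib.FlatBC10.Sections
import Groth.Agent.Lib.CohFound.RpushComp

/-!
# The edge map of an affine morphism after a qcqs one is an isomorphism
-/

set_option autoImplicit false
set_option linter.style.haveILetI false
set_option linter.unusedSectionVars false
set_option maxHeartbeats 400000

universe u

open CategoryTheory CategoryTheory.Limits AlgebraicGeometry TopologicalSpace Opposite HomologicalComplex
open Groth.Agent.CohFound

noncomputable section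

namespace Groth.Agent.FlatBC10

variable {X Y Z : Scheme.{u}} (f : X ⟶ Y) (g : Y ⟶ Z) [HasInjectiveResolutions X.Modules] (M : X.Modules) (q : ℕ)

/-- The change of functor on the complex. -/
def compK : dirCx (f ≫ g) M ⟶
    ((Scheme.Modules.pushforward g).mapHomologicalComplex _).obj (dirCx f M) :=
  (NatTrans.mapHomologicalComplex (Scheme.Modules.pushforwardComp f g).inv (ComplexShape.up ℕ)).app
    (injectiveResolution M).cocomplex

theorem lerayEdgeOut_eq :
    CohBC.lerayEdgeOut f g q M =
      ((injectiveResolution M).isoRightDerivedObj (Scheme.Modules.pushforward (f ≫ g)) q).hom ≫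
        homologyMap (compK f g M) q ≫ RDer.homologyComparison (Scheme.Modules.pushforward g) (dirCx f M) q ≫
        (Scheme.Modules.pushforward g).map
          ((injectiveResolution M).isoRightDerivedObj (Scheme.Modules.pushforward f) q).inv := by
  have e₂ : (RDer.rightDerivedIso (Scheme.Modules.pushforwardComp f g) q).inv.app M =
      ((injectiveResolution M).isoRightDerivedObj (Scheme.Modules.pushforward (f ≫ g)) q).hom ≫
        homologyMap (compK f g M) q ≫
        ((injectiveResolution M).isoRightDerivedObj (Scheme.Modules.pushforward f ⋙ Scheme.Modules.pushforward g) q).inv :=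
    InjectiveResolution.rightDerived_app_eq (Scheme.Modules.pushforwardComp f g).inv _ q
  unfold CohBC.lerayEdgeOut RDer.edgeOut
  erw [e₂]
  simp only [Category.assoc]
  exact congrArg (fun t => _ ≫ _ ≫ t) (Iso.inv_hom_id_assoc _ _)

theorem lerayEdgeOut_cocycle :
    cycπ (f ≫ g) M q ≫ CohBC.lerayEdgeOut f g q M =
      (cyclesMap (compK f g M) q ≫ RDer.cyclesComparison (Scheme.Modules.pushforward g) (dirCx f M) q) ≫
        (Scheme.Modules.pushforward g).map (cycπ f M q) := by
  rw [lerayEdgeOut_eq]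
  refine (Category.assoc _ _ _).trans ((congrArg (fun t => _ ≫ t) (Iso.inv_hom_id_assoc _ _)).trans ?_)
  exact slide _ _ _ _ _ _ _ _ (homologyπ_naturality (compK f g M) q)
    (RDer.homologyπ_homologyComparison (Scheme.Modules.pushforward g) _ q) (Functor.map_comp _ _ _)

variable [QuasiCompact f] [QuasiSeparated f] [IsAffineHom g] [Coh.IsQCoh M]

lemma bijective_lerayEdgeOut {U : Z.Opens} (hU : IsAffineOpen U) :
    Function.Bijective ((CohBC.lerayEdgeOut f g q M).app U) := by
  let l := cyclesMap (compK f g M) q ≫ RDer.cyclesComparison (Scheme.Modules.pushforward g) (dirCx f M) q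
  have hl : ∀ z, cocyc f M q (g ⁻¹ᵁ U) (l.app U z) = cocyc (f ≫ g) M q U z := fun z => by
    have e : l ≫ (Scheme.Modules.pushforward g).map ((dirCx f M).iCycles q) =
        (dirCx (f ≫ g) M).iCycles q ≫ (compK f g M).f q :=
      ((Category.assoc _ _ _).trans (congrArg (fun t => cyclesMap (compK f g M) q ≫ t)
        (RDer.cyclesComparison_i (Scheme.Modules.pushforward g) _ q))).trans (cyclesMap_i (compK f g M) q)
    exact congrArg (fun ψ : (dirCx (f ≫ g) M).cycles q ⟶ (Scheme.Modules.pushforward g).obj ((dirCx f M).X q) =>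
      ψ.app U z) e
  have hθ : ∀ z, (CohBC.lerayEdgeOut f g q M).app U ((cycπ (f ≫ g) M q).app U z) =
      (cycπ f M q).app (g ⁻¹ᵁ U) (l.app U z) := fun z =>
    congrArg (fun ψ : (dirCx (f ≫ g) M).cycles q ⟶ (Scheme.Modules.pushforward g).obj ((Coh.Rpush f q).obj M) =>
      ψ.app U z) (lerayEdgeOut_cocycle f g M q)
  have hV : IsAffineOpen (g ⁻¹ᵁ U) := hU.preimage g
  refine ⟨(injective_iff_map_eq_zero _).2 fun x hx => ?_, fun x => ?_⟩
  · obtain ⟨z, rfl⟩ := cycπ_surjective (f ≫ g) M q hU x
    obtain ⟨t, ht⟩ := (cycπ_eq_zero_iff f M q hV rfl _).1 ((hθ z).symm.trans hx)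
    exact (cycπ_eq_zero_iff (f ≫ g) M q hU rfl z).2 ⟨t, ht.trans (hl z)⟩
  · obtain ⟨y, rfl⟩ := cycπ_surjective f M q hV x
    obtain ⟨z, hz⟩ := exact_app (cxData (f ≫ g) M q rfl).exactI (U := U) (cocyc f M q (g ⁻¹ᵁ U) y)
      (d_cocyc f M q (g ⁻¹ᵁ U) y)
    refine ⟨(cycπ (f ≫ g) M q).app U z, (hθ z).trans (congrArg ((cycπ f M q).app (g ⁻¹ᵁ U)) ?_)⟩
    exact injective_app_of_mono (cxData f M q rfl).i (g ⁻¹ᵁ U) ((hl z).trans hz)

theorem isIso_lerayEdgeOut : IsIso (CohBC.lerayEdgeOut f g q M) := by
  haveI : IsIso ((abF Z).map (CohBC.lerayEdgeOut f g q M)) :=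
    isIso_of_bijective_basis _ (fun U : Opens (sp Z) => IsAffineOpen (U : Z.Opens))
      (fun W y hy => by
        obtain ⟨V, hV, hyV, hVW⟩ := Opens.isBasis_iff_nbhd.1 Z.isBasis_affineOpens (U := W) hy
        exact ⟨V, hV, hyV, hVW⟩)
      fun V hV => bijective_lerayEdgeOut f g M q hV
  exact isIso_of_reflects_iso _ (abF Z)

end Groth.Agent.FlatBC10
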