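import Groth.Agent.Lib.CBC10.PullComp
import Groth.Agent.Lib.PullBC11.Crit

/-!
# Transposes of composites, on sections
-/

set_option autoImplicit false

universe u

open CategoryTheory AlgebraicGeometry AlgebraicGeometry.Scheme.Modules Groth.Agent

namespace Groth.Agent.FlatBC10

variable {U V W : Scheme.{u}} (φ : U ⟶ V) (ψ : V ⟶ W) {P : W.Modules}

lemma mate_comp_app {N : U.Modules} (θ : P ⟶ (pushforward (φ ≫ ψ)).obj N) (O : W.Opens) (s : Γ(P, O)) :
    ((pullbackPushforwardAdjunction ψ).homEquiv P ((pushforward φ).obj N)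
      ((pullbackPushforwardAdjunction φ).homEquiv ((pullback ψ).obj P) N
        ((pullbackComp φ ψ).hom.app P ≫ ((pullbackPushforwardAdjunction (φ ≫ ψ)).homEquiv P N).symm θ))).app O s =
      θ.app O s := by
  simp only [Adjunction.homEquiv_unit]
  refine Eq.trans ?_ (PullBC11.homEquiv_symm_pullSec θ s)
  exact congrArg ((((pullbackPushforwardAdjunction (φ ≫ ψ)).homEquiv P N).symm θ).app ((φ ≫ ψ) ⁻¹ᵁ O))
    (ModLimH13.pullbackComp_pullSec φ ψ P s)

lemma mate_map_app {Q : V.Modules} {N N' : U.Modules} (θ₂ : P ⟶ (pushforward ψ).obj Q)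
    (θ₁ : Q ⟶ (pushforward φ).obj N) (c : N ⟶ N') (O : W.Opens) (s : Γ(P, O)) :
    ((pullbackPushforwardAdjunction ψ).homEquiv P ((pushforward φ).obj N')
      ((pullbackPushforwardAdjunction φ).homEquiv ((pullback ψ).obj P) N'
        ((pullback φ).map (((pullbackPushforwardAdjunction ψ).homEquiv P Q).symm θ₂) ≫
          ((pullbackPushforwardAdjunction φ).homEquiv Q N).symm θ₁ ≫ c))).app O s =
      c.app (φ ⁻¹ᵁ (ψ ⁻¹ᵁ O)) (θ₁.app (ψ ⁻¹ᵁ O) (θ₂.app O s)) := by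
  simp only [Adjunction.homEquiv_unit]
  refine Eq.trans ?_ (congrArg (c.app (φ ⁻¹ᵁ (ψ ⁻¹ᵁ O))) (PullBC11.homEquiv_symm_pullSec θ₁ (θ₂.app O s)))
  refine congrArg (c.app (φ ⁻¹ᵁ (ψ ⁻¹ᵁ O)))
    (congrArg ((((pullbackPushforwardAdjunction φ).homEquiv Q N).symm θ₁).app (φ ⁻¹ᵁ (ψ ⁻¹ᵁ O))) ?_)
  exact (Amp.map_pullSec φ _ (M2.pullSec ψ P s)).trans
    (congrArg (M2.pullSec φ Q) (PullBC11.homEquiv_symm_pullSec θ₂ s))

end Groth.Agent.FlatBC10
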