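import Groth.Agent.Lib.CBC10.FlatCoh
import Groth.Agent.Lib.CohFound.ProjRelVan
import Groth.Agent.Lib.ProjSpace.Basic
import Mathlib.Algebra.TrivSqZeroExt.Basic

/-!
# Cohomology of negative twists of projective space with coefficients in a module
-/

set_option autoImplicit false
set_option linter.style.haveILetI false
set_option linter.unusedSectionVars false
set_option maxHeartbeats 1000000

universe u

open CategoryTheory CategoryTheory.Limits AlgebraicGeometry TopologicalSpace
open Groth.Agent.CohFound Groth.Agent.CBC10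

noncomputable section

namespace Groth.Agent.FlatBC10

attribute [local instance] MvPolynomial.algebraMvPolynomial

/-- Negative twists have cohomology only in the top degree. -/
theorem subsingleton_HH_twistProjSpace_neg (n : ℕ) (R : Type u) [CommRing R] {d : ℤ} (hd : d < 0) (i : ℕ)
    (hi : i ≠ n) : Subsingleton (Coh.HH (CohB1.ProjSpace n R) (_root_.Twist.twistProjSpace n R d) i) := by
  refine @Equiv.subsingleton _ _ (hhExt (_root_.Twist.twistProjSpace n R d) i).toEquiv ?_
  rcases Nat.eq_zero_or_pos i with rfl | hi'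
  · exact @Equiv.subsingleton _ _ (hc0 _ _).toEquiv
      (Twist.subsingleton_sections_twistProjSpace_neg n R (by omega) hd)
  · exact ProjNum.subsingleton_hc_Od (n := n) (R := R) (d := d) i hi' (Or.inr hi)

/-- Negative twists with coefficients in any module have cohomology only in the top degree. -/
theorem subsingleton_HH_tensorA_twist (n : ℕ) (R : Type u) [CommRing R] (M : ModuleCat.{u} R) {d : ℤ}
    (hd : d < 0) (i : ℕ) (hi : i ≠ n) :
    Subsingleton (Coh.HH (CohB1.ProjSpace n R)
      (CohIII.tensorA R (_root_.Twist.twistProjSpace n R d) M) i) := by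
  letI : Module Rᵐᵒᵖ M := Module.compHom M ((RingHom.id R).fromOpposite fun _ _ => mul_comm _ _)
  haveI : IsCentralScalar R M := ⟨fun _ _ => rfl⟩
  let B := TrivSqZeroExt R M
  haveI : IsProper (CohB1.ProjSpace n R ↘ Spec (CommRingCat.of R)) :=
    (inferInstance : IsProper (CohB1.ProjSpace.toSpec n R))
  haveI := compactSpace_over R (CohB1.ProjSpace n R)
  haveI := isSeparated_over R (CohB1.ProjSpace n R)
  have hF := Twist.isQCoh_twistProjSpace n R d
  obtain ⟨ι, _, U, hcov, hU₀⟩ := exists_finite_affine_cover (CohB1.ProjSpace n R)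
  have hU := isAffineOpen_tupOpen (U := U) hU₀
  have hP := computes_down_K (A := R) hcov hU hF
  obtain ⟨ε, -⟩ := hP.exists_bc hF (B := B) (X' := CohB1.ProjSpace n B)
    (g := ProjSpace.map n (algebraMap R B)) (ProjSpace.isPullback_map n (algebraMap R B))
  obtain ⟨e'⟩ := nonempty_pullback_twistProjSpace n (algebraMap R B) d
  haveI := subsingleton_HH_twistProjSpace_neg n B hd i hi
  haveI : Subsingleton ((CohIII.TFun (down (K R U (_root_.Twist.twistProjSpace n R d))) (-(i : ℤ))).obj
      (ModuleCat.of R B)) :=
    ((ε i).trans (hmapEquiv e' i)).toEquiv.subsingleton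
  let a : M ⟶ ModuleCat.of R B := ModuleCat.ofHom (TrivSqZeroExt.inrHom R M)
  let b : ModuleCat.of R B ⟶ M := ModuleCat.ofHom (TrivSqZeroExt.sndHom R M)
  have hab : a ≫ b = 𝟙 M := ModuleCat.hom_ext (LinearMap.ext fun m => TrivSqZeroExt.snd_inr R m)
  haveI : Subsingleton ((CohIII.TFun (down (K R U (_root_.Twist.twistProjSpace n R d))) (-(i : ℤ))).obj M) := by
    refine Function.Injective.subsingleton
      (f := (CohIII.TFun (down (K R U (_root_.Twist.twistProjSpace n R d))) (-(i : ℤ))).map a) fun x y hxy => ?_
    have key : ∀ z, (CohIII.TFun (down (K R U (_root_.Twist.twistProjSpace n R d))) (-(i : ℤ))).map b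
        ((CohIII.TFun (down (K R U (_root_.Twist.twistProjSpace n R d))) (-(i : ℤ))).map a z) = z := fun z => by
      rw [← ConcreteCategory.comp_apply, ← Functor.map_comp, hab, CategoryTheory.Functor.map_id]
      rfl
    rw [← key x, ← key y, hxy]
  obtain ⟨e, -⟩ := hP
  exact @Equiv.subsingleton _ _ (e i M).symm.toEquiv ‹_›

end Groth.Agent.FlatBC10
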